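import Cfsg.Agent.Lib.Helper56.ONPerm.DataT

set_option autoImplicit false
set_option linter.unusedVariables false
set_option Elab.async false

namespace Cfsg.Agent.Lib.Helper56.ONPerm

open Cfsg.Spor.ON (Gen)
open Cfsg.Agent.Lib.Helper28 Cfsg.Agent.Lib.Helper28.TC Cfsg.Agent.Lib.Helper28.TC2 Cfsg.Agent.Lib.Helper28.ON122760

noncomputable section

theorem ordP_blk0 : allRange (guard nn ordP) 8 (0 * 2 ^ 8) = true := by decide +kernel
theorem ordP_blk1 : allRange (guard nn ordP) 8 (1 * 2 ^ 8) = true := by decide +kernel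
theorem ordP_blk2 : allRange (guard nn ordP) 8 (2 * 2 ^ 8) = true := by decide +kernel
theorem ordP_blk3 : allRange (guard nn ordP) 8 (3 * 2 ^ 8) = true := by decide +kernel
theorem ordP_blk4 : allRange (guard nn ordP) 8 (4 * 2 ^ 8) = true := by decide +kernel
theorem ordP_blk5 : allRange (guard nn ordP) 8 (5 * 2 ^ 8) = true := by decide +kernel
theorem ordP_blk6 : allRange (guard nn ordP) 8 (6 * 2 ^ 8) = true := by decide +kernel
theorem ordP_blk7 : allRange (guard nn ordP) 8 (7 * 2 ^ 8) = true := by decide +kernel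
theorem ordP_blk8 : allRange (guard nn ordP) 8 (8 * 2 ^ 8) = true := by decide +kernel
theorem ordP_blk9 : allRange (guard nn ordP) 8 (9 * 2 ^ 8) = true := by decide +kernel
theorem ordP_blk10 : allRange (guard nn ordP) 8 (10 * 2 ^ 8) = true := by decide +kernel
theorem ordP_blk11 : allRange (guard nn ordP) 8 (11 * 2 ^ 8) = true := by decide +kernel
theorem ordP_blk12 : allRange (guard nn ordP) 8 (12 * 2 ^ 8) = true := by decide +kernel
theorem ordP_blk13 : allRange (guard nn ordP) 8 (13 * 2 ^ 8) = true := by decide +kernel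
theorem ordP_blk14 : allRange (guard nn ordP) 8 (14 * 2 ^ 8) = true := by decide +kernel
theorem ordP_blk15 : allRange (guard nn ordP) 8 (15 * 2 ^ 8) = true := by decide +kernel
theorem ordP_blk16 : allRange (guard nn ordP) 8 (16 * 2 ^ 8) = true := by decide +kernel
theorem ordP_blk17 : allRange (guard nn ordP) 8 (17 * 2 ^ 8) = true := by decide +kernel
theorem ordP_blk18 : allRange (guard nn ordP) 8 (18 * 2 ^ 8) = true := by decide +kernel
theorem ordP_blk19 : allRange (guard nn ordP) 8 (19 * 2 ^ 8) = true := by decide +kernel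
theorem ordP_blk20 : allRange (guard nn ordP) 8 (20 * 2 ^ 8) = true := by decide +kernel
theorem ordP_blk21 : allRange (guard nn ordP) 8 (21 * 2 ^ 8) = true := by decide +kernel
theorem ordP_blk22 : allRange (guard nn ordP) 8 (22 * 2 ^ 8) = true := by decide +kernel
theorem ordP_blk23 : allRange (guard nn ordP) 8 (23 * 2 ^ 8) = true := by decide +kernel
theorem ordP_blk24 : allRange (guard nn ordP) 8 (24 * 2 ^ 8) = true := by decide +kernel
theorem ordP_blk25 : allRange (guard nn ordP) 8 (25 * 2 ^ 8) = true := by decide +kernel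
theorem ordP_blk26 : allRange (guard nn ordP) 8 (26 * 2 ^ 8) = true := by decide +kernel
theorem ordP_blk27 : allRange (guard nn ordP) 8 (27 * 2 ^ 8) = true := by decide +kernel
theorem ordP_blk28 : allRange (guard nn ordP) 8 (28 * 2 ^ 8) = true := by decide +kernel
theorem ordP_blk29 : allRange (guard nn ordP) 8 (29 * 2 ^ 8) = true := by decide +kernel
theorem ordP_blk30 : allRange (guard nn ordP) 8 (30 * 2 ^ 8) = true := by decide +kernel
theorem ordP_blk31 : allRange (guard nn ordP) 8 (31 * 2 ^ 8) = true := by decide +kernel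
theorem ordP_f0 : ∀ k, 0 ≤ k → k < 32 → allRange (guard nn ordP) 8 (k * 2 ^ 8) = true := by
  intro k h1 h2
  interval_cases k
  · exact ordP_blk0
  · exact ordP_blk1
  · exact ordP_blk2
  · exact ordP_blk3
  · exact ordP_blk4
  · exact ordP_blk5
  · exact ordP_blk6
  · exact ordP_blk7
  · exact ordP_blk8
  · exact ordP_blk9
  · exact ordP_blk10
  · exact ordP_blk11
  · exact ordP_blk12
  · exact ordP_blk13
  · exact ordP_blk14
  · exact ordP_blk15
  · exact ordP_blk16
  · exact ordP_blk17
  · exact ordP_blk18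
  · exact ordP_blk19
  · exact ordP_blk20
  · exact ordP_blk21
  · exact ordP_blk22
  · exact ordP_blk23
  · exact ordP_blk24
  · exact ordP_blk25
  · exact ordP_blk26
  · exact ordP_blk27
  · exact ordP_blk28
  · exact ordP_blk29
  · exact ordP_blk30
  · exact ordP_blk31

end

end Cfsg.Agent.Lib.Helper56.ONPerm
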