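import Cfsg.Agent.Lib.Helper56.ONPerm.DataT

set_option autoImplicit false
set_option linter.unusedVariables false
set_option Elab.async false

namespace Cfsg.Agent.Lib.Helper56.ONPerm

open Cfsg.Spor.ON (Gen)
open Cfsg.Agent.Lib.Helper28 Cfsg.Agent.Lib.Helper28.TC Cfsg.Agent.Lib.Helper28.TC2 Cfsg.Agent.Lib.Helper28.ON122760

noncomputable section

theorem ordP_blk32 : allRange (guard nn ordP) 8 (32 * 2 ^ 8) = true := by decide +kernel
theorem ordP_blk33 : allRange (guard nn ordP) 8 (33 * 2 ^ 8) = true := by decide +kernel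
theorem ordP_blk34 : allRange (guard nn ordP) 8 (34 * 2 ^ 8) = true := by decide +kernel
theorem ordP_blk35 : allRange (guard nn ordP) 8 (35 * 2 ^ 8) = true := by decide +kernel
theorem ordP_blk36 : allRange (guard nn ordP) 8 (36 * 2 ^ 8) = true := by decide +kernel
theorem ordP_blk37 : allRange (guard nn ordP) 8 (37 * 2 ^ 8) = true := by decide +kernel
theorem ordP_blk38 : allRange (guard nn ordP) 8 (38 * 2 ^ 8) = true := by decide +kernel
theorem ordP_blk39 : allRange (guard nn ordP) 8 (39 * 2 ^ 8) = true := by decide +kernel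
theorem ordP_blk40 : allRange (guard nn ordP) 8 (40 * 2 ^ 8) = true := by decide +kernel
theorem ordP_blk41 : allRange (guard nn ordP) 8 (41 * 2 ^ 8) = true := by decide +kernel
theorem ordP_blk42 : allRange (guard nn ordP) 8 (42 * 2 ^ 8) = true := by decide +kernel
theorem ordP_blk43 : allRange (guard nn ordP) 8 (43 * 2 ^ 8) = true := by decide +kernel
theorem ordP_blk44 : allRange (guard nn ordP) 8 (44 * 2 ^ 8) = true := by decide +kernel
theorem ordP_blk45 : allRange (guard nn ordP) 8 (45 * 2 ^ 8) = true := by decide +kernel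
theorem ordP_blk46 : allRange (guard nn ordP) 8 (46 * 2 ^ 8) = true := by decide +kernel
theorem ordP_blk47 : allRange (guard nn ordP) 8 (47 * 2 ^ 8) = true := by decide +kernel
theorem ordP_blk48 : allRange (guard nn ordP) 8 (48 * 2 ^ 8) = true := by decide +kernel
theorem ordP_blk49 : allRange (guard nn ordP) 8 (49 * 2 ^ 8) = true := by decide +kernel
theorem ordP_blk50 : allRange (guard nn ordP) 8 (50 * 2 ^ 8) = true := by decide +kernel
theorem ordP_blk51 : allRange (guard nn ordP) 8 (51 * 2 ^ 8) = true := by decide +kernel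
theorem ordP_blk52 : allRange (guard nn ordP) 8 (52 * 2 ^ 8) = true := by decide +kernel
theorem ordP_blk53 : allRange (guard nn ordP) 8 (53 * 2 ^ 8) = true := by decide +kernel
theorem ordP_blk54 : allRange (guard nn ordP) 8 (54 * 2 ^ 8) = true := by decide +kernel
theorem ordP_blk55 : allRange (guard nn ordP) 8 (55 * 2 ^ 8) = true := by decide +kernel
theorem ordP_blk56 : allRange (guard nn ordP) 8 (56 * 2 ^ 8) = true := by decide +kernel
theorem ordP_blk57 : allRange (guard nn ordP) 8 (57 * 2 ^ 8) = true := by decide +kernel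
theorem ordP_blk58 : allRange (guard nn ordP) 8 (58 * 2 ^ 8) = true := by decide +kernel
theorem ordP_blk59 : allRange (guard nn ordP) 8 (59 * 2 ^ 8) = true := by decide +kernel
theorem ordP_blk60 : allRange (guard nn ordP) 8 (60 * 2 ^ 8) = true := by decide +kernel
theorem ordP_blk61 : allRange (guard nn ordP) 8 (61 * 2 ^ 8) = true := by decide +kernel
theorem ordP_blk62 : allRange (guard nn ordP) 8 (62 * 2 ^ 8) = true := by decide +kernel
theorem ordP_blk63 : allRange (guard nn ordP) 8 (63 * 2 ^ 8) = true := by decide +kernel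
theorem ordP_f1 : ∀ k, 32 ≤ k → k < 64 → allRange (guard nn ordP) 8 (k * 2 ^ 8) = true := by
  intro k h1 h2
  interval_cases k
  · exact ordP_blk32
  · exact ordP_blk33
  · exact ordP_blk34
  · exact ordP_blk35
  · exact ordP_blk36
  · exact ordP_blk37
  · exact ordP_blk38
  · exact ordP_blk39
  · exact ordP_blk40
  · exact ordP_blk41
  · exact ordP_blk42
  · exact ordP_blk43
  · exact ordP_blk44
  · exact ordP_blk45
  · exact ordP_blk46
  · exact ordP_blk47
  · exact ordP_blk48
  · exact ordP_blk49
  · exact ordP_blk50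
  · exact ordP_blk51
  · exact ordP_blk52
  · exact ordP_blk53
  · exact ordP_blk54
  · exact ordP_blk55
  · exact ordP_blk56
  · exact ordP_blk57
  · exact ordP_blk58
  · exact ordP_blk59
  · exact ordP_blk60
  · exact ordP_blk61
  · exact ordP_blk62
  · exact ordP_blk63

end

end Cfsg.Agent.Lib.Helper56.ONPerm
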