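import Cfsg.Agent.Lib.Helper56.ONPerm.DataT

set_option autoImplicit false
set_option linter.unusedVariables false
set_option Elab.async false

namespace Cfsg.Agent.Lib.Helper56.ONPerm

open Cfsg.Spor.ON (Gen)
open Cfsg.Agent.Lib.Helper28 Cfsg.Agent.Lib.Helper28.TC Cfsg.Agent.Lib.Helper28.TC2 Cfsg.Agent.Lib.Helper28.ON122760

noncomputable section

theorem ordP_blk384 : allRange (guard nn ordP) 8 (384 * 2 ^ 8) = true := by decide +kernel
theorem ordP_blk385 : allRange (guard nn ordP) 8 (385 * 2 ^ 8) = true := by decide +kernel
theorem ordP_blk386 : allRange (guard nn ordP) 8 (386 * 2 ^ 8) = true := by decide +kernel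
theorem ordP_blk387 : allRange (guard nn ordP) 8 (387 * 2 ^ 8) = true := by decide +kernel
theorem ordP_blk388 : allRange (guard nn ordP) 8 (388 * 2 ^ 8) = true := by decide +kernel
theorem ordP_blk389 : allRange (guard nn ordP) 8 (389 * 2 ^ 8) = true := by decide +kernel
theorem ordP_blk390 : allRange (guard nn ordP) 8 (390 * 2 ^ 8) = true := by decide +kernel
theorem ordP_blk391 : allRange (guard nn ordP) 8 (391 * 2 ^ 8) = true := by decide +kernel
theorem ordP_blk392 : allRange (guard nn ordP) 8 (392 * 2 ^ 8) = true := by decide +kernel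
theorem ordP_blk393 : allRange (guard nn ordP) 8 (393 * 2 ^ 8) = true := by decide +kernel
theorem ordP_blk394 : allRange (guard nn ordP) 8 (394 * 2 ^ 8) = true := by decide +kernel
theorem ordP_blk395 : allRange (guard nn ordP) 8 (395 * 2 ^ 8) = true := by decide +kernel
theorem ordP_blk396 : allRange (guard nn ordP) 8 (396 * 2 ^ 8) = true := by decide +kernel
theorem ordP_blk397 : allRange (guard nn ordP) 8 (397 * 2 ^ 8) = true := by decide +kernel
theorem ordP_blk398 : allRange (guard nn ordP) 8 (398 * 2 ^ 8) = true := by decide +kernel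
theorem ordP_blk399 : allRange (guard nn ordP) 8 (399 * 2 ^ 8) = true := by decide +kernel
theorem ordP_blk400 : allRange (guard nn ordP) 8 (400 * 2 ^ 8) = true := by decide +kernel
theorem ordP_blk401 : allRange (guard nn ordP) 8 (401 * 2 ^ 8) = true := by decide +kernel
theorem ordP_blk402 : allRange (guard nn ordP) 8 (402 * 2 ^ 8) = true := by decide +kernel
theorem ordP_blk403 : allRange (guard nn ordP) 8 (403 * 2 ^ 8) = true := by decide +kernel
theorem ordP_blk404 : allRange (guard nn ordP) 8 (404 * 2 ^ 8) = true := by decide +kernel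
theorem ordP_blk405 : allRange (guard nn ordP) 8 (405 * 2 ^ 8) = true := by decide +kernel
theorem ordP_blk406 : allRange (guard nn ordP) 8 (406 * 2 ^ 8) = true := by decide +kernel
theorem ordP_blk407 : allRange (guard nn ordP) 8 (407 * 2 ^ 8) = true := by decide +kernel
theorem ordP_blk408 : allRange (guard nn ordP) 8 (408 * 2 ^ 8) = true := by decide +kernel
theorem ordP_blk409 : allRange (guard nn ordP) 8 (409 * 2 ^ 8) = true := by decide +kernel
theorem ordP_blk410 : allRange (guard nn ordP) 8 (410 * 2 ^ 8) = true := by decide +kernel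
theorem ordP_blk411 : allRange (guard nn ordP) 8 (411 * 2 ^ 8) = true := by decide +kernel
theorem ordP_blk412 : allRange (guard nn ordP) 8 (412 * 2 ^ 8) = true := by decide +kernel
theorem ordP_blk413 : allRange (guard nn ordP) 8 (413 * 2 ^ 8) = true := by decide +kernel
theorem ordP_blk414 : allRange (guard nn ordP) 8 (414 * 2 ^ 8) = true := by decide +kernel
theorem ordP_blk415 : allRange (guard nn ordP) 8 (415 * 2 ^ 8) = true := by decide +kernel
theorem ordP_f12 : ∀ k, 384 ≤ k → k < 416 → allRange (guard nn ordP) 8 (k * 2 ^ 8) = true := by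
  intro k h1 h2
  interval_cases k
  · exact ordP_blk384
  · exact ordP_blk385
  · exact ordP_blk386
  · exact ordP_blk387
  · exact ordP_blk388
  · exact ordP_blk389
  · exact ordP_blk390
  · exact ordP_blk391
  · exact ordP_blk392
  · exact ordP_blk393
  · exact ordP_blk394
  · exact ordP_blk395
  · exact ordP_blk396
  · exact ordP_blk397
  · exact ordP_blk398
  · exact ordP_blk399
  · exact ordP_blk400
  · exact ordP_blk401
  · exact ordP_blk402
  · exact ordP_blk403
  · exact ordP_blk404
  · exact ordP_blk405
  · exact ordP_blk406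
  · exact ordP_blk407
  · exact ordP_blk408
  · exact ordP_blk409
  · exact ordP_blk410
  · exact ordP_blk411
  · exact ordP_blk412
  · exact ordP_blk413
  · exact ordP_blk414
  · exact ordP_blk415

end

end Cfsg.Agent.Lib.Helper56.ONPerm
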