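import Cfsg.Agent.Lib.Helper56.ONPerm.DataT

set_option autoImplicit false
set_option linter.unusedVariables false
set_option Elab.async false

namespace Cfsg.Agent.Lib.Helper56.ONPerm

open Cfsg.Spor.ON (Gen)
open Cfsg.Agent.Lib.Helper28 Cfsg.Agent.Lib.Helper28.TC Cfsg.Agent.Lib.Helper28.TC2 Cfsg.Agent.Lib.Helper28.ON122760

noncomputable section

theorem ordP_blk416 : allRange (guard nn ordP) 8 (416 * 2 ^ 8) = true := by decide +kernel
theorem ordP_blk417 : allRange (guard nn ordP) 8 (417 * 2 ^ 8) = true := by decide +kernel
theorem ordP_blk418 : allRange (guard nn ordP) 8 (418 * 2 ^ 8) = true := by decide +kernel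
theorem ordP_blk419 : allRange (guard nn ordP) 8 (419 * 2 ^ 8) = true := by decide +kernel
theorem ordP_blk420 : allRange (guard nn ordP) 8 (420 * 2 ^ 8) = true := by decide +kernel
theorem ordP_blk421 : allRange (guard nn ordP) 8 (421 * 2 ^ 8) = true := by decide +kernel
theorem ordP_blk422 : allRange (guard nn ordP) 8 (422 * 2 ^ 8) = true := by decide +kernel
theorem ordP_blk423 : allRange (guard nn ordP) 8 (423 * 2 ^ 8) = true := by decide +kernel
theorem ordP_blk424 : allRange (guard nn ordP) 8 (424 * 2 ^ 8) = true := by decide +kernel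
theorem ordP_blk425 : allRange (guard nn ordP) 8 (425 * 2 ^ 8) = true := by decide +kernel
theorem ordP_blk426 : allRange (guard nn ordP) 8 (426 * 2 ^ 8) = true := by decide +kernel
theorem ordP_blk427 : allRange (guard nn ordP) 8 (427 * 2 ^ 8) = true := by decide +kernel
theorem ordP_blk428 : allRange (guard nn ordP) 8 (428 * 2 ^ 8) = true := by decide +kernel
theorem ordP_blk429 : allRange (guard nn ordP) 8 (429 * 2 ^ 8) = true := by decide +kernel
theorem ordP_blk430 : allRange (guard nn ordP) 8 (430 * 2 ^ 8) = true := by decide +kernel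
theorem ordP_blk431 : allRange (guard nn ordP) 8 (431 * 2 ^ 8) = true := by decide +kernel
theorem ordP_blk432 : allRange (guard nn ordP) 8 (432 * 2 ^ 8) = true := by decide +kernel
theorem ordP_blk433 : allRange (guard nn ordP) 8 (433 * 2 ^ 8) = true := by decide +kernel
theorem ordP_blk434 : allRange (guard nn ordP) 8 (434 * 2 ^ 8) = true := by decide +kernel
theorem ordP_blk435 : allRange (guard nn ordP) 8 (435 * 2 ^ 8) = true := by decide +kernel
theorem ordP_blk436 : allRange (guard nn ordP) 8 (436 * 2 ^ 8) = true := by decide +kernel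
theorem ordP_blk437 : allRange (guard nn ordP) 8 (437 * 2 ^ 8) = true := by decide +kernel
theorem ordP_blk438 : allRange (guard nn ordP) 8 (438 * 2 ^ 8) = true := by decide +kernel
theorem ordP_blk439 : allRange (guard nn ordP) 8 (439 * 2 ^ 8) = true := by decide +kernel
theorem ordP_blk440 : allRange (guard nn ordP) 8 (440 * 2 ^ 8) = true := by decide +kernel
theorem ordP_blk441 : allRange (guard nn ordP) 8 (441 * 2 ^ 8) = true := by decide +kernel
theorem ordP_blk442 : allRange (guard nn ordP) 8 (442 * 2 ^ 8) = true := by decide +kernel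
theorem ordP_blk443 : allRange (guard nn ordP) 8 (443 * 2 ^ 8) = true := by decide +kernel
theorem ordP_blk444 : allRange (guard nn ordP) 8 (444 * 2 ^ 8) = true := by decide +kernel
theorem ordP_blk445 : allRange (guard nn ordP) 8 (445 * 2 ^ 8) = true := by decide +kernel
theorem ordP_blk446 : allRange (guard nn ordP) 8 (446 * 2 ^ 8) = true := by decide +kernel
theorem ordP_blk447 : allRange (guard nn ordP) 8 (447 * 2 ^ 8) = true := by decide +kernel
theorem ordP_f13 : ∀ k, 416 ≤ k → k < 448 → allRange (guard nn ordP) 8 (k * 2 ^ 8) = true := by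
  intro k h1 h2
  interval_cases k
  · exact ordP_blk416
  · exact ordP_blk417
  · exact ordP_blk418
  · exact ordP_blk419
  · exact ordP_blk420
  · exact ordP_blk421
  · exact ordP_blk422
  · exact ordP_blk423
  · exact ordP_blk424
  · exact ordP_blk425
  · exact ordP_blk426
  · exact ordP_blk427
  · exact ordP_blk428
  · exact ordP_blk429
  · exact ordP_blk430
  · exact ordP_blk431
  · exact ordP_blk432
  · exact ordP_blk433
  · exact ordP_blk434
  · exact ordP_blk435
  · exact ordP_blk436
  · exact ordP_blk437
  · exact ordP_blk438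
  · exact ordP_blk439
  · exact ordP_blk440
  · exact ordP_blk441
  · exact ordP_blk442
  · exact ordP_blk443
  · exact ordP_blk444
  · exact ordP_blk445
  · exact ordP_blk446
  · exact ordP_blk447

end

end Cfsg.Agent.Lib.Helper56.ONPerm
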