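import Cfsg.Agent.Lib.Helper56.ONPerm.DataT

set_option autoImplicit false
set_option linter.unusedVariables false
set_option Elab.async false

namespace Cfsg.Agent.Lib.Helper56.ONPerm

open Cfsg.Spor.ON (Gen)
open Cfsg.Agent.Lib.Helper28 Cfsg.Agent.Lib.Helper28.TC Cfsg.Agent.Lib.Helper28.TC2 Cfsg.Agent.Lib.Helper28.ON122760

noncomputable section

theorem ordP_blk448 : allRange (guard nn ordP) 8 (448 * 2 ^ 8) = true := by decide +kernel
theorem ordP_blk449 : allRange (guard nn ordP) 8 (449 * 2 ^ 8) = true := by decide +kernel
theorem ordP_blk450 : allRange (guard nn ordP) 8 (450 * 2 ^ 8) = true := by decide +kernel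
theorem ordP_blk451 : allRange (guard nn ordP) 8 (451 * 2 ^ 8) = true := by decide +kernel
theorem ordP_blk452 : allRange (guard nn ordP) 8 (452 * 2 ^ 8) = true := by decide +kernel
theorem ordP_blk453 : allRange (guard nn ordP) 8 (453 * 2 ^ 8) = true := by decide +kernel
theorem ordP_blk454 : allRange (guard nn ordP) 8 (454 * 2 ^ 8) = true := by decide +kernel
theorem ordP_blk455 : allRange (guard nn ordP) 8 (455 * 2 ^ 8) = true := by decide +kernel
theorem ordP_blk456 : allRange (guard nn ordP) 8 (456 * 2 ^ 8) = true := by decide +kernel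
theorem ordP_blk457 : allRange (guard nn ordP) 8 (457 * 2 ^ 8) = true := by decide +kernel
theorem ordP_blk458 : allRange (guard nn ordP) 8 (458 * 2 ^ 8) = true := by decide +kernel
theorem ordP_blk459 : allRange (guard nn ordP) 8 (459 * 2 ^ 8) = true := by decide +kernel
theorem ordP_blk460 : allRange (guard nn ordP) 8 (460 * 2 ^ 8) = true := by decide +kernel
theorem ordP_blk461 : allRange (guard nn ordP) 8 (461 * 2 ^ 8) = true := by decide +kernel
theorem ordP_blk462 : allRange (guard nn ordP) 8 (462 * 2 ^ 8) = true := by decide +kernel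
theorem ordP_blk463 : allRange (guard nn ordP) 8 (463 * 2 ^ 8) = true := by decide +kernel
theorem ordP_blk464 : allRange (guard nn ordP) 8 (464 * 2 ^ 8) = true := by decide +kernel
theorem ordP_blk465 : allRange (guard nn ordP) 8 (465 * 2 ^ 8) = true := by decide +kernel
theorem ordP_blk466 : allRange (guard nn ordP) 8 (466 * 2 ^ 8) = true := by decide +kernel
theorem ordP_blk467 : allRange (guard nn ordP) 8 (467 * 2 ^ 8) = true := by decide +kernel
theorem ordP_blk468 : allRange (guard nn ordP) 8 (468 * 2 ^ 8) = true := by decide +kernel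
theorem ordP_blk469 : allRange (guard nn ordP) 8 (469 * 2 ^ 8) = true := by decide +kernel
theorem ordP_blk470 : allRange (guard nn ordP) 8 (470 * 2 ^ 8) = true := by decide +kernel
theorem ordP_blk471 : allRange (guard nn ordP) 8 (471 * 2 ^ 8) = true := by decide +kernel
theorem ordP_blk472 : allRange (guard nn ordP) 8 (472 * 2 ^ 8) = true := by decide +kernel
theorem ordP_blk473 : allRange (guard nn ordP) 8 (473 * 2 ^ 8) = true := by decide +kernel
theorem ordP_blk474 : allRange (guard nn ordP) 8 (474 * 2 ^ 8) = true := by decide +kernel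
theorem ordP_blk475 : allRange (guard nn ordP) 8 (475 * 2 ^ 8) = true := by decide +kernel
theorem ordP_blk476 : allRange (guard nn ordP) 8 (476 * 2 ^ 8) = true := by decide +kernel
theorem ordP_blk477 : allRange (guard nn ordP) 8 (477 * 2 ^ 8) = true := by decide +kernel
theorem ordP_blk478 : allRange (guard nn ordP) 8 (478 * 2 ^ 8) = true := by decide +kernel
theorem ordP_blk479 : allRange (guard nn ordP) 8 (479 * 2 ^ 8) = true := by decide +kernel
theorem ordP_f14 : ∀ k, 448 ≤ k → k < 480 → allRange (guard nn ordP) 8 (k * 2 ^ 8) = true := by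
  intro k h1 h2
  interval_cases k
  · exact ordP_blk448
  · exact ordP_blk449
  · exact ordP_blk450
  · exact ordP_blk451
  · exact ordP_blk452
  · exact ordP_blk453
  · exact ordP_blk454
  · exact ordP_blk455
  · exact ordP_blk456
  · exact ordP_blk457
  · exact ordP_blk458
  · exact ordP_blk459
  · exact ordP_blk460
  · exact ordP_blk461
  · exact ordP_blk462
  · exact ordP_blk463
  · exact ordP_blk464
  · exact ordP_blk465
  · exact ordP_blk466
  · exact ordP_blk467
  · exact ordP_blk468
  · exact ordP_blk469
  · exact ordP_blk470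
  · exact ordP_blk471
  · exact ordP_blk472
  · exact ordP_blk473
  · exact ordP_blk474
  · exact ordP_blk475
  · exact ordP_blk476
  · exact ordP_blk477
  · exact ordP_blk478
  · exact ordP_blk479

end

end Cfsg.Agent.Lib.Helper56.ONPerm
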