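import Cfsg.Agent.Lib.Helper56.ONPerm.DataT

set_option autoImplicit false
set_option linter.unusedVariables false
set_option Elab.async false

namespace Cfsg.Agent.Lib.Helper56.ONPerm

open Cfsg.Spor.ON (Gen)
open Cfsg.Agent.Lib.Helper28 Cfsg.Agent.Lib.Helper28.TC Cfsg.Agent.Lib.Helper28.TC2 Cfsg.Agent.Lib.Helper28.ON122760

noncomputable section

theorem ordP_blk64 : allRange (guard nn ordP) 8 (64 * 2 ^ 8) = true := by decide +kernel
theorem ordP_blk65 : allRange (guard nn ordP) 8 (65 * 2 ^ 8) = true := by decide +kernel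
theorem ordP_blk66 : allRange (guard nn ordP) 8 (66 * 2 ^ 8) = true := by decide +kernel
theorem ordP_blk67 : allRange (guard nn ordP) 8 (67 * 2 ^ 8) = true := by decide +kernel
theorem ordP_blk68 : allRange (guard nn ordP) 8 (68 * 2 ^ 8) = true := by decide +kernel
theorem ordP_blk69 : allRange (guard nn ordP) 8 (69 * 2 ^ 8) = true := by decide +kernel
theorem ordP_blk70 : allRange (guard nn ordP) 8 (70 * 2 ^ 8) = true := by decide +kernel
theorem ordP_blk71 : allRange (guard nn ordP) 8 (71 * 2 ^ 8) = true := by decide +kernel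
theorem ordP_blk72 : allRange (guard nn ordP) 8 (72 * 2 ^ 8) = true := by decide +kernel
theorem ordP_blk73 : allRange (guard nn ordP) 8 (73 * 2 ^ 8) = true := by decide +kernel
theorem ordP_blk74 : allRange (guard nn ordP) 8 (74 * 2 ^ 8) = true := by decide +kernel
theorem ordP_blk75 : allRange (guard nn ordP) 8 (75 * 2 ^ 8) = true := by decide +kernel
theorem ordP_blk76 : allRange (guard nn ordP) 8 (76 * 2 ^ 8) = true := by decide +kernel
theorem ordP_blk77 : allRange (guard nn ordP) 8 (77 * 2 ^ 8) = true := by decide +kernel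
theorem ordP_blk78 : allRange (guard nn ordP) 8 (78 * 2 ^ 8) = true := by decide +kernel
theorem ordP_blk79 : allRange (guard nn ordP) 8 (79 * 2 ^ 8) = true := by decide +kernel
theorem ordP_blk80 : allRange (guard nn ordP) 8 (80 * 2 ^ 8) = true := by decide +kernel
theorem ordP_blk81 : allRange (guard nn ordP) 8 (81 * 2 ^ 8) = true := by decide +kernel
theorem ordP_blk82 : allRange (guard nn ordP) 8 (82 * 2 ^ 8) = true := by decide +kernel
theorem ordP_blk83 : allRange (guard nn ordP) 8 (83 * 2 ^ 8) = true := by decide +kernel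
theorem ordP_blk84 : allRange (guard nn ordP) 8 (84 * 2 ^ 8) = true := by decide +kernel
theorem ordP_blk85 : allRange (guard nn ordP) 8 (85 * 2 ^ 8) = true := by decide +kernel
theorem ordP_blk86 : allRange (guard nn ordP) 8 (86 * 2 ^ 8) = true := by decide +kernel
theorem ordP_blk87 : allRange (guard nn ordP) 8 (87 * 2 ^ 8) = true := by decide +kernel
theorem ordP_blk88 : allRange (guard nn ordP) 8 (88 * 2 ^ 8) = true := by decide +kernel
theorem ordP_blk89 : allRange (guard nn ordP) 8 (89 * 2 ^ 8) = true := by decide +kernel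
theorem ordP_blk90 : allRange (guard nn ordP) 8 (90 * 2 ^ 8) = true := by decide +kernel
theorem ordP_blk91 : allRange (guard nn ordP) 8 (91 * 2 ^ 8) = true := by decide +kernel
theorem ordP_blk92 : allRange (guard nn ordP) 8 (92 * 2 ^ 8) = true := by decide +kernel
theorem ordP_blk93 : allRange (guard nn ordP) 8 (93 * 2 ^ 8) = true := by decide +kernel
theorem ordP_blk94 : allRange (guard nn ordP) 8 (94 * 2 ^ 8) = true := by decide +kernel
theorem ordP_blk95 : allRange (guard nn ordP) 8 (95 * 2 ^ 8) = true := by decide +kernel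
theorem ordP_f2 : ∀ k, 64 ≤ k → k < 96 → allRange (guard nn ordP) 8 (k * 2 ^ 8) = true := by
  intro k h1 h2
  interval_cases k
  · exact ordP_blk64
  · exact ordP_blk65
  · exact ordP_blk66
  · exact ordP_blk67
  · exact ordP_blk68
  · exact ordP_blk69
  · exact ordP_blk70
  · exact ordP_blk71
  · exact ordP_blk72
  · exact ordP_blk73
  · exact ordP_blk74
  · exact ordP_blk75
  · exact ordP_blk76
  · exact ordP_blk77
  · exact ordP_blk78
  · exact ordP_blk79
  · exact ordP_blk80
  · exact ordP_blk81
  · exact ordP_blk82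
  · exact ordP_blk83
  · exact ordP_blk84
  · exact ordP_blk85
  · exact ordP_blk86
  · exact ordP_blk87
  · exact ordP_blk88
  · exact ordP_blk89
  · exact ordP_blk90
  · exact ordP_blk91
  · exact ordP_blk92
  · exact ordP_blk93
  · exact ordP_blk94
  · exact ordP_blk95

end

end Cfsg.Agent.Lib.Helper56.ONPerm
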