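import Cfsg.Agent.Lib.Helper56.ONPerm.DataT

set_option autoImplicit false
set_option linter.unusedVariables false
set_option Elab.async false

namespace Cfsg.Agent.Lib.Helper56.ONPerm

open Cfsg.Spor.ON (Gen)
open Cfsg.Agent.Lib.Helper28 Cfsg.Agent.Lib.Helper28.TC Cfsg.Agent.Lib.Helper28.TC2 Cfsg.Agent.Lib.Helper28.ON122760

noncomputable section

theorem ordP_blk96 : allRange (guard nn ordP) 8 (96 * 2 ^ 8) = true := by decide +kernel
theorem ordP_blk97 : allRange (guard nn ordP) 8 (97 * 2 ^ 8) = true := by decide +kernel
theorem ordP_blk98 : allRange (guard nn ordP) 8 (98 * 2 ^ 8) = true := by decide +kernel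
theorem ordP_blk99 : allRange (guard nn ordP) 8 (99 * 2 ^ 8) = true := by decide +kernel
theorem ordP_blk100 : allRange (guard nn ordP) 8 (100 * 2 ^ 8) = true := by decide +kernel
theorem ordP_blk101 : allRange (guard nn ordP) 8 (101 * 2 ^ 8) = true := by decide +kernel
theorem ordP_blk102 : allRange (guard nn ordP) 8 (102 * 2 ^ 8) = true := by decide +kernel
theorem ordP_blk103 : allRange (guard nn ordP) 8 (103 * 2 ^ 8) = true := by decide +kernel
theorem ordP_blk104 : allRange (guard nn ordP) 8 (104 * 2 ^ 8) = true := by decide +kernel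
theorem ordP_blk105 : allRange (guard nn ordP) 8 (105 * 2 ^ 8) = true := by decide +kernel
theorem ordP_blk106 : allRange (guard nn ordP) 8 (106 * 2 ^ 8) = true := by decide +kernel
theorem ordP_blk107 : allRange (guard nn ordP) 8 (107 * 2 ^ 8) = true := by decide +kernel
theorem ordP_blk108 : allRange (guard nn ordP) 8 (108 * 2 ^ 8) = true := by decide +kernel
theorem ordP_blk109 : allRange (guard nn ordP) 8 (109 * 2 ^ 8) = true := by decide +kernel
theorem ordP_blk110 : allRange (guard nn ordP) 8 (110 * 2 ^ 8) = true := by decide +kernel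
theorem ordP_blk111 : allRange (guard nn ordP) 8 (111 * 2 ^ 8) = true := by decide +kernel
theorem ordP_blk112 : allRange (guard nn ordP) 8 (112 * 2 ^ 8) = true := by decide +kernel
theorem ordP_blk113 : allRange (guard nn ordP) 8 (113 * 2 ^ 8) = true := by decide +kernel
theorem ordP_blk114 : allRange (guard nn ordP) 8 (114 * 2 ^ 8) = true := by decide +kernel
theorem ordP_blk115 : allRange (guard nn ordP) 8 (115 * 2 ^ 8) = true := by decide +kernel
theorem ordP_blk116 : allRange (guard nn ordP) 8 (116 * 2 ^ 8) = true := by decide +kernel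
theorem ordP_blk117 : allRange (guard nn ordP) 8 (117 * 2 ^ 8) = true := by decide +kernel
theorem ordP_blk118 : allRange (guard nn ordP) 8 (118 * 2 ^ 8) = true := by decide +kernel
theorem ordP_blk119 : allRange (guard nn ordP) 8 (119 * 2 ^ 8) = true := by decide +kernel
theorem ordP_blk120 : allRange (guard nn ordP) 8 (120 * 2 ^ 8) = true := by decide +kernel
theorem ordP_blk121 : allRange (guard nn ordP) 8 (121 * 2 ^ 8) = true := by decide +kernel
theorem ordP_blk122 : allRange (guard nn ordP) 8 (122 * 2 ^ 8) = true := by decide +kernel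
theorem ordP_blk123 : allRange (guard nn ordP) 8 (123 * 2 ^ 8) = true := by decide +kernel
theorem ordP_blk124 : allRange (guard nn ordP) 8 (124 * 2 ^ 8) = true := by decide +kernel
theorem ordP_blk125 : allRange (guard nn ordP) 8 (125 * 2 ^ 8) = true := by decide +kernel
theorem ordP_blk126 : allRange (guard nn ordP) 8 (126 * 2 ^ 8) = true := by decide +kernel
theorem ordP_blk127 : allRange (guard nn ordP) 8 (127 * 2 ^ 8) = true := by decide +kernel
theorem ordP_f3 : ∀ k, 96 ≤ k → k < 128 → allRange (guard nn ordP) 8 (k * 2 ^ 8) = true := by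
  intro k h1 h2
  interval_cases k
  · exact ordP_blk96
  · exact ordP_blk97
  · exact ordP_blk98
  · exact ordP_blk99
  · exact ordP_blk100
  · exact ordP_blk101
  · exact ordP_blk102
  · exact ordP_blk103
  · exact ordP_blk104
  · exact ordP_blk105
  · exact ordP_blk106
  · exact ordP_blk107
  · exact ordP_blk108
  · exact ordP_blk109
  · exact ordP_blk110
  · exact ordP_blk111
  · exact ordP_blk112
  · exact ordP_blk113
  · exact ordP_blk114
  · exact ordP_blk115
  · exact ordP_blk116
  · exact ordP_blk117
  · exact ordP_blk118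
  · exact ordP_blk119
  · exact ordP_blk120
  · exact ordP_blk121
  · exact ordP_blk122
  · exact ordP_blk123
  · exact ordP_blk124
  · exact ordP_blk125
  · exact ordP_blk126
  · exact ordP_blk127

end

end Cfsg.Agent.Lib.Helper56.ONPerm
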