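import Cfsg.Agent.Lib.Helper56.ONPerm.DataT

set_option autoImplicit false
set_option linter.unusedVariables false
set_option Elab.async false

namespace Cfsg.Agent.Lib.Helper56.ONPerm

open Cfsg.Spor.ON (Gen)
open Cfsg.Agent.Lib.Helper28 Cfsg.Agent.Lib.Helper28.TC Cfsg.Agent.Lib.Helper28.TC2 Cfsg.Agent.Lib.Helper28.ON122760

noncomputable section

theorem ordP_blk128 : allRange (guard nn ordP) 8 (128 * 2 ^ 8) = true := by decide +kernel
theorem ordP_blk129 : allRange (guard nn ordP) 8 (129 * 2 ^ 8) = true := by decide +kernel
theorem ordP_blk130 : allRange (guard nn ordP) 8 (130 * 2 ^ 8) = true := by decide +kernel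
theorem ordP_blk131 : allRange (guard nn ordP) 8 (131 * 2 ^ 8) = true := by decide +kernel
theorem ordP_blk132 : allRange (guard nn ordP) 8 (132 * 2 ^ 8) = true := by decide +kernel
theorem ordP_blk133 : allRange (guard nn ordP) 8 (133 * 2 ^ 8) = true := by decide +kernel
theorem ordP_blk134 : allRange (guard nn ordP) 8 (134 * 2 ^ 8) = true := by decide +kernel
theorem ordP_blk135 : allRange (guard nn ordP) 8 (135 * 2 ^ 8) = true := by decide +kernel
theorem ordP_blk136 : allRange (guard nn ordP) 8 (136 * 2 ^ 8) = true := by decide +kernel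
theorem ordP_blk137 : allRange (guard nn ordP) 8 (137 * 2 ^ 8) = true := by decide +kernel
theorem ordP_blk138 : allRange (guard nn ordP) 8 (138 * 2 ^ 8) = true := by decide +kernel
theorem ordP_blk139 : allRange (guard nn ordP) 8 (139 * 2 ^ 8) = true := by decide +kernel
theorem ordP_blk140 : allRange (guard nn ordP) 8 (140 * 2 ^ 8) = true := by decide +kernel
theorem ordP_blk141 : allRange (guard nn ordP) 8 (141 * 2 ^ 8) = true := by decide +kernel
theorem ordP_blk142 : allRange (guard nn ordP) 8 (142 * 2 ^ 8) = true := by decide +kernel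
theorem ordP_blk143 : allRange (guard nn ordP) 8 (143 * 2 ^ 8) = true := by decide +kernel
theorem ordP_blk144 : allRange (guard nn ordP) 8 (144 * 2 ^ 8) = true := by decide +kernel
theorem ordP_blk145 : allRange (guard nn ordP) 8 (145 * 2 ^ 8) = true := by decide +kernel
theorem ordP_blk146 : allRange (guard nn ordP) 8 (146 * 2 ^ 8) = true := by decide +kernel
theorem ordP_blk147 : allRange (guard nn ordP) 8 (147 * 2 ^ 8) = true := by decide +kernel
theorem ordP_blk148 : allRange (guard nn ordP) 8 (148 * 2 ^ 8) = true := by decide +kernel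
theorem ordP_blk149 : allRange (guard nn ordP) 8 (149 * 2 ^ 8) = true := by decide +kernel
theorem ordP_blk150 : allRange (guard nn ordP) 8 (150 * 2 ^ 8) = true := by decide +kernel
theorem ordP_blk151 : allRange (guard nn ordP) 8 (151 * 2 ^ 8) = true := by decide +kernel
theorem ordP_blk152 : allRange (guard nn ordP) 8 (152 * 2 ^ 8) = true := by decide +kernel
theorem ordP_blk153 : allRange (guard nn ordP) 8 (153 * 2 ^ 8) = true := by decide +kernel
theorem ordP_blk154 : allRange (guard nn ordP) 8 (154 * 2 ^ 8) = true := by decide +kernel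
theorem ordP_blk155 : allRange (guard nn ordP) 8 (155 * 2 ^ 8) = true := by decide +kernel
theorem ordP_blk156 : allRange (guard nn ordP) 8 (156 * 2 ^ 8) = true := by decide +kernel
theorem ordP_blk157 : allRange (guard nn ordP) 8 (157 * 2 ^ 8) = true := by decide +kernel
theorem ordP_blk158 : allRange (guard nn ordP) 8 (158 * 2 ^ 8) = true := by decide +kernel
theorem ordP_blk159 : allRange (guard nn ordP) 8 (159 * 2 ^ 8) = true := by decide +kernel
theorem ordP_f4 : ∀ k, 128 ≤ k → k < 160 → allRange (guard nn ordP) 8 (k * 2 ^ 8) = true := by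
  intro k h1 h2
  interval_cases k
  · exact ordP_blk128
  · exact ordP_blk129
  · exact ordP_blk130
  · exact ordP_blk131
  · exact ordP_blk132
  · exact ordP_blk133
  · exact ordP_blk134
  · exact ordP_blk135
  · exact ordP_blk136
  · exact ordP_blk137
  · exact ordP_blk138
  · exact ordP_blk139
  · exact ordP_blk140
  · exact ordP_blk141
  · exact ordP_blk142
  · exact ordP_blk143
  · exact ordP_blk144
  · exact ordP_blk145
  · exact ordP_blk146
  · exact ordP_blk147
  · exact ordP_blk148
  · exact ordP_blk149
  · exact ordP_blk150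
  · exact ordP_blk151
  · exact ordP_blk152
  · exact ordP_blk153
  · exact ordP_blk154
  · exact ordP_blk155
  · exact ordP_blk156
  · exact ordP_blk157
  · exact ordP_blk158
  · exact ordP_blk159

end

end Cfsg.Agent.Lib.Helper56.ONPerm
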