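import Cfsg.Agent.Lib.Helper56.ONPerm.DataT

set_option autoImplicit false
set_option linter.unusedVariables false
set_option Elab.async false

namespace Cfsg.Agent.Lib.Helper56.ONPerm

open Cfsg.Spor.ON (Gen)
open Cfsg.Agent.Lib.Helper28 Cfsg.Agent.Lib.Helper28.TC Cfsg.Agent.Lib.Helper28.TC2 Cfsg.Agent.Lib.Helper28.ON122760

noncomputable section

theorem ordP_blk160 : allRange (guard nn ordP) 8 (160 * 2 ^ 8) = true := by decide +kernel
theorem ordP_blk161 : allRange (guard nn ordP) 8 (161 * 2 ^ 8) = true := by decide +kernel
theorem ordP_blk162 : allRange (guard nn ordP) 8 (162 * 2 ^ 8) = true := by decide +kernel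
theorem ordP_blk163 : allRange (guard nn ordP) 8 (163 * 2 ^ 8) = true := by decide +kernel
theorem ordP_blk164 : allRange (guard nn ordP) 8 (164 * 2 ^ 8) = true := by decide +kernel
theorem ordP_blk165 : allRange (guard nn ordP) 8 (165 * 2 ^ 8) = true := by decide +kernel
theorem ordP_blk166 : allRange (guard nn ordP) 8 (166 * 2 ^ 8) = true := by decide +kernel
theorem ordP_blk167 : allRange (guard nn ordP) 8 (167 * 2 ^ 8) = true := by decide +kernel
theorem ordP_blk168 : allRange (guard nn ordP) 8 (168 * 2 ^ 8) = true := by decide +kernel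
theorem ordP_blk169 : allRange (guard nn ordP) 8 (169 * 2 ^ 8) = true := by decide +kernel
theorem ordP_blk170 : allRange (guard nn ordP) 8 (170 * 2 ^ 8) = true := by decide +kernel
theorem ordP_blk171 : allRange (guard nn ordP) 8 (171 * 2 ^ 8) = true := by decide +kernel
theorem ordP_blk172 : allRange (guard nn ordP) 8 (172 * 2 ^ 8) = true := by decide +kernel
theorem ordP_blk173 : allRange (guard nn ordP) 8 (173 * 2 ^ 8) = true := by decide +kernel
theorem ordP_blk174 : allRange (guard nn ordP) 8 (174 * 2 ^ 8) = true := by decide +kernel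
theorem ordP_blk175 : allRange (guard nn ordP) 8 (175 * 2 ^ 8) = true := by decide +kernel
theorem ordP_blk176 : allRange (guard nn ordP) 8 (176 * 2 ^ 8) = true := by decide +kernel
theorem ordP_blk177 : allRange (guard nn ordP) 8 (177 * 2 ^ 8) = true := by decide +kernel
theorem ordP_blk178 : allRange (guard nn ordP) 8 (178 * 2 ^ 8) = true := by decide +kernel
theorem ordP_blk179 : allRange (guard nn ordP) 8 (179 * 2 ^ 8) = true := by decide +kernel
theorem ordP_blk180 : allRange (guard nn ordP) 8 (180 * 2 ^ 8) = true := by decide +kernel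
theorem ordP_blk181 : allRange (guard nn ordP) 8 (181 * 2 ^ 8) = true := by decide +kernel
theorem ordP_blk182 : allRange (guard nn ordP) 8 (182 * 2 ^ 8) = true := by decide +kernel
theorem ordP_blk183 : allRange (guard nn ordP) 8 (183 * 2 ^ 8) = true := by decide +kernel
theorem ordP_blk184 : allRange (guard nn ordP) 8 (184 * 2 ^ 8) = true := by decide +kernel
theorem ordP_blk185 : allRange (guard nn ordP) 8 (185 * 2 ^ 8) = true := by decide +kernel
theorem ordP_blk186 : allRange (guard nn ordP) 8 (186 * 2 ^ 8) = true := by decide +kernel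
theorem ordP_blk187 : allRange (guard nn ordP) 8 (187 * 2 ^ 8) = true := by decide +kernel
theorem ordP_blk188 : allRange (guard nn ordP) 8 (188 * 2 ^ 8) = true := by decide +kernel
theorem ordP_blk189 : allRange (guard nn ordP) 8 (189 * 2 ^ 8) = true := by decide +kernel
theorem ordP_blk190 : allRange (guard nn ordP) 8 (190 * 2 ^ 8) = true := by decide +kernel
theorem ordP_blk191 : allRange (guard nn ordP) 8 (191 * 2 ^ 8) = true := by decide +kernel
theorem ordP_f5 : ∀ k, 160 ≤ k → k < 192 → allRange (guard nn ordP) 8 (k * 2 ^ 8) = true := by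
  intro k h1 h2
  interval_cases k
  · exact ordP_blk160
  · exact ordP_blk161
  · exact ordP_blk162
  · exact ordP_blk163
  · exact ordP_blk164
  · exact ordP_blk165
  · exact ordP_blk166
  · exact ordP_blk167
  · exact ordP_blk168
  · exact ordP_blk169
  · exact ordP_blk170
  · exact ordP_blk171
  · exact ordP_blk172
  · exact ordP_blk173
  · exact ordP_blk174
  · exact ordP_blk175
  · exact ordP_blk176
  · exact ordP_blk177
  · exact ordP_blk178
  · exact ordP_blk179
  · exact ordP_blk180
  · exact ordP_blk181
  · exact ordP_blk182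
  · exact ordP_blk183
  · exact ordP_blk184
  · exact ordP_blk185
  · exact ordP_blk186
  · exact ordP_blk187
  · exact ordP_blk188
  · exact ordP_blk189
  · exact ordP_blk190
  · exact ordP_blk191

end

end Cfsg.Agent.Lib.Helper56.ONPerm
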