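import Cfsg.Agent.Lib.Helper56.ONPerm.DataT

set_option autoImplicit false
set_option linter.unusedVariables false
set_option Elab.async false

namespace Cfsg.Agent.Lib.Helper56.ONPerm

open Cfsg.Spor.ON (Gen)
open Cfsg.Agent.Lib.Helper28 Cfsg.Agent.Lib.Helper28.TC Cfsg.Agent.Lib.Helper28.TC2 Cfsg.Agent.Lib.Helper28.ON122760

noncomputable section

theorem ordP_blk192 : allRange (guard nn ordP) 8 (192 * 2 ^ 8) = true := by decide +kernel
theorem ordP_blk193 : allRange (guard nn ordP) 8 (193 * 2 ^ 8) = true := by decide +kernel
theorem ordP_blk194 : allRange (guard nn ordP) 8 (194 * 2 ^ 8) = true := by decide +kernel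
theorem ordP_blk195 : allRange (guard nn ordP) 8 (195 * 2 ^ 8) = true := by decide +kernel
theorem ordP_blk196 : allRange (guard nn ordP) 8 (196 * 2 ^ 8) = true := by decide +kernel
theorem ordP_blk197 : allRange (guard nn ordP) 8 (197 * 2 ^ 8) = true := by decide +kernel
theorem ordP_blk198 : allRange (guard nn ordP) 8 (198 * 2 ^ 8) = true := by decide +kernel
theorem ordP_blk199 : allRange (guard nn ordP) 8 (199 * 2 ^ 8) = true := by decide +kernel
theorem ordP_blk200 : allRange (guard nn ordP) 8 (200 * 2 ^ 8) = true := by decide +kernel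
theorem ordP_blk201 : allRange (guard nn ordP) 8 (201 * 2 ^ 8) = true := by decide +kernel
theorem ordP_blk202 : allRange (guard nn ordP) 8 (202 * 2 ^ 8) = true := by decide +kernel
theorem ordP_blk203 : allRange (guard nn ordP) 8 (203 * 2 ^ 8) = true := by decide +kernel
theorem ordP_blk204 : allRange (guard nn ordP) 8 (204 * 2 ^ 8) = true := by decide +kernel
theorem ordP_blk205 : allRange (guard nn ordP) 8 (205 * 2 ^ 8) = true := by decide +kernel
theorem ordP_blk206 : allRange (guard nn ordP) 8 (206 * 2 ^ 8) = true := by decide +kernel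
theorem ordP_blk207 : allRange (guard nn ordP) 8 (207 * 2 ^ 8) = true := by decide +kernel
theorem ordP_blk208 : allRange (guard nn ordP) 8 (208 * 2 ^ 8) = true := by decide +kernel
theorem ordP_blk209 : allRange (guard nn ordP) 8 (209 * 2 ^ 8) = true := by decide +kernel
theorem ordP_blk210 : allRange (guard nn ordP) 8 (210 * 2 ^ 8) = true := by decide +kernel
theorem ordP_blk211 : allRange (guard nn ordP) 8 (211 * 2 ^ 8) = true := by decide +kernel
theorem ordP_blk212 : allRange (guard nn ordP) 8 (212 * 2 ^ 8) = true := by decide +kernel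
theorem ordP_blk213 : allRange (guard nn ordP) 8 (213 * 2 ^ 8) = true := by decide +kernel
theorem ordP_blk214 : allRange (guard nn ordP) 8 (214 * 2 ^ 8) = true := by decide +kernel
theorem ordP_blk215 : allRange (guard nn ordP) 8 (215 * 2 ^ 8) = true := by decide +kernel
theorem ordP_blk216 : allRange (guard nn ordP) 8 (216 * 2 ^ 8) = true := by decide +kernel
theorem ordP_blk217 : allRange (guard nn ordP) 8 (217 * 2 ^ 8) = true := by decide +kernel
theorem ordP_blk218 : allRange (guard nn ordP) 8 (218 * 2 ^ 8) = true := by decide +kernel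
theorem ordP_blk219 : allRange (guard nn ordP) 8 (219 * 2 ^ 8) = true := by decide +kernel
theorem ordP_blk220 : allRange (guard nn ordP) 8 (220 * 2 ^ 8) = true := by decide +kernel
theorem ordP_blk221 : allRange (guard nn ordP) 8 (221 * 2 ^ 8) = true := by decide +kernel
theorem ordP_blk222 : allRange (guard nn ordP) 8 (222 * 2 ^ 8) = true := by decide +kernel
theorem ordP_blk223 : allRange (guard nn ordP) 8 (223 * 2 ^ 8) = true := by decide +kernel
theorem ordP_f6 : ∀ k, 192 ≤ k → k < 224 → allRange (guard nn ordP) 8 (k * 2 ^ 8) = true := by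
  intro k h1 h2
  interval_cases k
  · exact ordP_blk192
  · exact ordP_blk193
  · exact ordP_blk194
  · exact ordP_blk195
  · exact ordP_blk196
  · exact ordP_blk197
  · exact ordP_blk198
  · exact ordP_blk199
  · exact ordP_blk200
  · exact ordP_blk201
  · exact ordP_blk202
  · exact ordP_blk203
  · exact ordP_blk204
  · exact ordP_blk205
  · exact ordP_blk206
  · exact ordP_blk207
  · exact ordP_blk208
  · exact ordP_blk209
  · exact ordP_blk210
  · exact ordP_blk211
  · exact ordP_blk212
  · exact ordP_blk213
  · exact ordP_blk214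
  · exact ordP_blk215
  · exact ordP_blk216
  · exact ordP_blk217
  · exact ordP_blk218
  · exact ordP_blk219
  · exact ordP_blk220
  · exact ordP_blk221
  · exact ordP_blk222
  · exact ordP_blk223

end

end Cfsg.Agent.Lib.Helper56.ONPerm
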