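import Cfsg.Agent.Lib.Helper56.ONPerm.DataT

set_option autoImplicit false
set_option linter.unusedVariables false
set_option Elab.async false

namespace Cfsg.Agent.Lib.Helper56.ONPerm

open Cfsg.Spor.ON (Gen)
open Cfsg.Agent.Lib.Helper28 Cfsg.Agent.Lib.Helper28.TC Cfsg.Agent.Lib.Helper28.TC2 Cfsg.Agent.Lib.Helper28.ON122760

noncomputable section

theorem ordP_blk224 : allRange (guard nn ordP) 8 (224 * 2 ^ 8) = true := by decide +kernel
theorem ordP_blk225 : allRange (guard nn ordP) 8 (225 * 2 ^ 8) = true := by decide +kernel
theorem ordP_blk226 : allRange (guard nn ordP) 8 (226 * 2 ^ 8) = true := by decide +kernel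
theorem ordP_blk227 : allRange (guard nn ordP) 8 (227 * 2 ^ 8) = true := by decide +kernel
theorem ordP_blk228 : allRange (guard nn ordP) 8 (228 * 2 ^ 8) = true := by decide +kernel
theorem ordP_blk229 : allRange (guard nn ordP) 8 (229 * 2 ^ 8) = true := by decide +kernel
theorem ordP_blk230 : allRange (guard nn ordP) 8 (230 * 2 ^ 8) = true := by decide +kernel
theorem ordP_blk231 : allRange (guard nn ordP) 8 (231 * 2 ^ 8) = true := by decide +kernel
theorem ordP_blk232 : allRange (guard nn ordP) 8 (232 * 2 ^ 8) = true := by decide +kernel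
theorem ordP_blk233 : allRange (guard nn ordP) 8 (233 * 2 ^ 8) = true := by decide +kernel
theorem ordP_blk234 : allRange (guard nn ordP) 8 (234 * 2 ^ 8) = true := by decide +kernel
theorem ordP_blk235 : allRange (guard nn ordP) 8 (235 * 2 ^ 8) = true := by decide +kernel
theorem ordP_blk236 : allRange (guard nn ordP) 8 (236 * 2 ^ 8) = true := by decide +kernel
theorem ordP_blk237 : allRange (guard nn ordP) 8 (237 * 2 ^ 8) = true := by decide +kernel
theorem ordP_blk238 : allRange (guard nn ordP) 8 (238 * 2 ^ 8) = true := by decide +kernel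
theorem ordP_blk239 : allRange (guard nn ordP) 8 (239 * 2 ^ 8) = true := by decide +kernel
theorem ordP_blk240 : allRange (guard nn ordP) 8 (240 * 2 ^ 8) = true := by decide +kernel
theorem ordP_blk241 : allRange (guard nn ordP) 8 (241 * 2 ^ 8) = true := by decide +kernel
theorem ordP_blk242 : allRange (guard nn ordP) 8 (242 * 2 ^ 8) = true := by decide +kernel
theorem ordP_blk243 : allRange (guard nn ordP) 8 (243 * 2 ^ 8) = true := by decide +kernel
theorem ordP_blk244 : allRange (guard nn ordP) 8 (244 * 2 ^ 8) = true := by decide +kernel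
theorem ordP_blk245 : allRange (guard nn ordP) 8 (245 * 2 ^ 8) = true := by decide +kernel
theorem ordP_blk246 : allRange (guard nn ordP) 8 (246 * 2 ^ 8) = true := by decide +kernel
theorem ordP_blk247 : allRange (guard nn ordP) 8 (247 * 2 ^ 8) = true := by decide +kernel
theorem ordP_blk248 : allRange (guard nn ordP) 8 (248 * 2 ^ 8) = true := by decide +kernel
theorem ordP_blk249 : allRange (guard nn ordP) 8 (249 * 2 ^ 8) = true := by decide +kernel
theorem ordP_blk250 : allRange (guard nn ordP) 8 (250 * 2 ^ 8) = true := by decide +kernel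
theorem ordP_blk251 : allRange (guard nn ordP) 8 (251 * 2 ^ 8) = true := by decide +kernel
theorem ordP_blk252 : allRange (guard nn ordP) 8 (252 * 2 ^ 8) = true := by decide +kernel
theorem ordP_blk253 : allRange (guard nn ordP) 8 (253 * 2 ^ 8) = true := by decide +kernel
theorem ordP_blk254 : allRange (guard nn ordP) 8 (254 * 2 ^ 8) = true := by decide +kernel
theorem ordP_blk255 : allRange (guard nn ordP) 8 (255 * 2 ^ 8) = true := by decide +kernel
theorem ordP_f7 : ∀ k, 224 ≤ k → k < 256 → allRange (guard nn ordP) 8 (k * 2 ^ 8) = true := by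
  intro k h1 h2
  interval_cases k
  · exact ordP_blk224
  · exact ordP_blk225
  · exact ordP_blk226
  · exact ordP_blk227
  · exact ordP_blk228
  · exact ordP_blk229
  · exact ordP_blk230
  · exact ordP_blk231
  · exact ordP_blk232
  · exact ordP_blk233
  · exact ordP_blk234
  · exact ordP_blk235
  · exact ordP_blk236
  · exact ordP_blk237
  · exact ordP_blk238
  · exact ordP_blk239
  · exact ordP_blk240
  · exact ordP_blk241
  · exact ordP_blk242
  · exact ordP_blk243
  · exact ordP_blk244
  · exact ordP_blk245
  · exact ordP_blk246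
  · exact ordP_blk247
  · exact ordP_blk248
  · exact ordP_blk249
  · exact ordP_blk250
  · exact ordP_blk251
  · exact ordP_blk252
  · exact ordP_blk253
  · exact ordP_blk254
  · exact ordP_blk255

end

end Cfsg.Agent.Lib.Helper56.ONPerm
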