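import Cfsg.Agent.Lib.Helper56.ONPerm.DataT

set_option autoImplicit false
set_option linter.unusedVariables false
set_option Elab.async false

namespace Cfsg.Agent.Lib.Helper56.ONPerm

open Cfsg.Spor.ON (Gen)
open Cfsg.Agent.Lib.Helper28 Cfsg.Agent.Lib.Helper28.TC Cfsg.Agent.Lib.Helper28.TC2 Cfsg.Agent.Lib.Helper28.ON122760

noncomputable section

theorem ordP_blk256 : allRange (guard nn ordP) 8 (256 * 2 ^ 8) = true := by decide +kernel
theorem ordP_blk257 : allRange (guard nn ordP) 8 (257 * 2 ^ 8) = true := by decide +kernel
theorem ordP_blk258 : allRange (guard nn ordP) 8 (258 * 2 ^ 8) = true := by decide +kernel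
theorem ordP_blk259 : allRange (guard nn ordP) 8 (259 * 2 ^ 8) = true := by decide +kernel
theorem ordP_blk260 : allRange (guard nn ordP) 8 (260 * 2 ^ 8) = true := by decide +kernel
theorem ordP_blk261 : allRange (guard nn ordP) 8 (261 * 2 ^ 8) = true := by decide +kernel
theorem ordP_blk262 : allRange (guard nn ordP) 8 (262 * 2 ^ 8) = true := by decide +kernel
theorem ordP_blk263 : allRange (guard nn ordP) 8 (263 * 2 ^ 8) = true := by decide +kernel
theorem ordP_blk264 : allRange (guard nn ordP) 8 (264 * 2 ^ 8) = true := by decide +kernel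
theorem ordP_blk265 : allRange (guard nn ordP) 8 (265 * 2 ^ 8) = true := by decide +kernel
theorem ordP_blk266 : allRange (guard nn ordP) 8 (266 * 2 ^ 8) = true := by decide +kernel
theorem ordP_blk267 : allRange (guard nn ordP) 8 (267 * 2 ^ 8) = true := by decide +kernel
theorem ordP_blk268 : allRange (guard nn ordP) 8 (268 * 2 ^ 8) = true := by decide +kernel
theorem ordP_blk269 : allRange (guard nn ordP) 8 (269 * 2 ^ 8) = true := by decide +kernel
theorem ordP_blk270 : allRange (guard nn ordP) 8 (270 * 2 ^ 8) = true := by decide +kernel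
theorem ordP_blk271 : allRange (guard nn ordP) 8 (271 * 2 ^ 8) = true := by decide +kernel
theorem ordP_blk272 : allRange (guard nn ordP) 8 (272 * 2 ^ 8) = true := by decide +kernel
theorem ordP_blk273 : allRange (guard nn ordP) 8 (273 * 2 ^ 8) = true := by decide +kernel
theorem ordP_blk274 : allRange (guard nn ordP) 8 (274 * 2 ^ 8) = true := by decide +kernel
theorem ordP_blk275 : allRange (guard nn ordP) 8 (275 * 2 ^ 8) = true := by decide +kernel
theorem ordP_blk276 : allRange (guard nn ordP) 8 (276 * 2 ^ 8) = true := by decide +kernel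
theorem ordP_blk277 : allRange (guard nn ordP) 8 (277 * 2 ^ 8) = true := by decide +kernel
theorem ordP_blk278 : allRange (guard nn ordP) 8 (278 * 2 ^ 8) = true := by decide +kernel
theorem ordP_blk279 : allRange (guard nn ordP) 8 (279 * 2 ^ 8) = true := by decide +kernel
theorem ordP_blk280 : allRange (guard nn ordP) 8 (280 * 2 ^ 8) = true := by decide +kernel
theorem ordP_blk281 : allRange (guard nn ordP) 8 (281 * 2 ^ 8) = true := by decide +kernel
theorem ordP_blk282 : allRange (guard nn ordP) 8 (282 * 2 ^ 8) = true := by decide +kernel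
theorem ordP_blk283 : allRange (guard nn ordP) 8 (283 * 2 ^ 8) = true := by decide +kernel
theorem ordP_blk284 : allRange (guard nn ordP) 8 (284 * 2 ^ 8) = true := by decide +kernel
theorem ordP_blk285 : allRange (guard nn ordP) 8 (285 * 2 ^ 8) = true := by decide +kernel
theorem ordP_blk286 : allRange (guard nn ordP) 8 (286 * 2 ^ 8) = true := by decide +kernel
theorem ordP_blk287 : allRange (guard nn ordP) 8 (287 * 2 ^ 8) = true := by decide +kernel
theorem ordP_f8 : ∀ k, 256 ≤ k → k < 288 → allRange (guard nn ordP) 8 (k * 2 ^ 8) = true := by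
  intro k h1 h2
  interval_cases k
  · exact ordP_blk256
  · exact ordP_blk257
  · exact ordP_blk258
  · exact ordP_blk259
  · exact ordP_blk260
  · exact ordP_blk261
  · exact ordP_blk262
  · exact ordP_blk263
  · exact ordP_blk264
  · exact ordP_blk265
  · exact ordP_blk266
  · exact ordP_blk267
  · exact ordP_blk268
  · exact ordP_blk269
  · exact ordP_blk270
  · exact ordP_blk271
  · exact ordP_blk272
  · exact ordP_blk273
  · exact ordP_blk274
  · exact ordP_blk275
  · exact ordP_blk276
  · exact ordP_blk277
  · exact ordP_blk278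
  · exact ordP_blk279
  · exact ordP_blk280
  · exact ordP_blk281
  · exact ordP_blk282
  · exact ordP_blk283
  · exact ordP_blk284
  · exact ordP_blk285
  · exact ordP_blk286
  · exact ordP_blk287

end

end Cfsg.Agent.Lib.Helper56.ONPerm
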