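import Cfsg.Agent.Lib.Helper56.ONPerm.DataT

set_option autoImplicit false
set_option linter.unusedVariables false
set_option Elab.async false

namespace Cfsg.Agent.Lib.Helper56.ONPerm

open Cfsg.Spor.ON (Gen)
open Cfsg.Agent.Lib.Helper28 Cfsg.Agent.Lib.Helper28.TC Cfsg.Agent.Lib.Helper28.TC2 Cfsg.Agent.Lib.Helper28.ON122760

noncomputable section

theorem ordP_blk288 : allRange (guard nn ordP) 8 (288 * 2 ^ 8) = true := by decide +kernel
theorem ordP_blk289 : allRange (guard nn ordP) 8 (289 * 2 ^ 8) = true := by decide +kernel
theorem ordP_blk290 : allRange (guard nn ordP) 8 (290 * 2 ^ 8) = true := by decide +kernel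
theorem ordP_blk291 : allRange (guard nn ordP) 8 (291 * 2 ^ 8) = true := by decide +kernel
theorem ordP_blk292 : allRange (guard nn ordP) 8 (292 * 2 ^ 8) = true := by decide +kernel
theorem ordP_blk293 : allRange (guard nn ordP) 8 (293 * 2 ^ 8) = true := by decide +kernel
theorem ordP_blk294 : allRange (guard nn ordP) 8 (294 * 2 ^ 8) = true := by decide +kernel
theorem ordP_blk295 : allRange (guard nn ordP) 8 (295 * 2 ^ 8) = true := by decide +kernel
theorem ordP_blk296 : allRange (guard nn ordP) 8 (296 * 2 ^ 8) = true := by decide +kernel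
theorem ordP_blk297 : allRange (guard nn ordP) 8 (297 * 2 ^ 8) = true := by decide +kernel
theorem ordP_blk298 : allRange (guard nn ordP) 8 (298 * 2 ^ 8) = true := by decide +kernel
theorem ordP_blk299 : allRange (guard nn ordP) 8 (299 * 2 ^ 8) = true := by decide +kernel
theorem ordP_blk300 : allRange (guard nn ordP) 8 (300 * 2 ^ 8) = true := by decide +kernel
theorem ordP_blk301 : allRange (guard nn ordP) 8 (301 * 2 ^ 8) = true := by decide +kernel
theorem ordP_blk302 : allRange (guard nn ordP) 8 (302 * 2 ^ 8) = true := by decide +kernel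
theorem ordP_blk303 : allRange (guard nn ordP) 8 (303 * 2 ^ 8) = true := by decide +kernel
theorem ordP_blk304 : allRange (guard nn ordP) 8 (304 * 2 ^ 8) = true := by decide +kernel
theorem ordP_blk305 : allRange (guard nn ordP) 8 (305 * 2 ^ 8) = true := by decide +kernel
theorem ordP_blk306 : allRange (guard nn ordP) 8 (306 * 2 ^ 8) = true := by decide +kernel
theorem ordP_blk307 : allRange (guard nn ordP) 8 (307 * 2 ^ 8) = true := by decide +kernel
theorem ordP_blk308 : allRange (guard nn ordP) 8 (308 * 2 ^ 8) = true := by decide +kernel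
theorem ordP_blk309 : allRange (guard nn ordP) 8 (309 * 2 ^ 8) = true := by decide +kernel
theorem ordP_blk310 : allRange (guard nn ordP) 8 (310 * 2 ^ 8) = true := by decide +kernel
theorem ordP_blk311 : allRange (guard nn ordP) 8 (311 * 2 ^ 8) = true := by decide +kernel
theorem ordP_blk312 : allRange (guard nn ordP) 8 (312 * 2 ^ 8) = true := by decide +kernel
theorem ordP_blk313 : allRange (guard nn ordP) 8 (313 * 2 ^ 8) = true := by decide +kernel
theorem ordP_blk314 : allRange (guard nn ordP) 8 (314 * 2 ^ 8) = true := by decide +kernel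
theorem ordP_blk315 : allRange (guard nn ordP) 8 (315 * 2 ^ 8) = true := by decide +kernel
theorem ordP_blk316 : allRange (guard nn ordP) 8 (316 * 2 ^ 8) = true := by decide +kernel
theorem ordP_blk317 : allRange (guard nn ordP) 8 (317 * 2 ^ 8) = true := by decide +kernel
theorem ordP_blk318 : allRange (guard nn ordP) 8 (318 * 2 ^ 8) = true := by decide +kernel
theorem ordP_blk319 : allRange (guard nn ordP) 8 (319 * 2 ^ 8) = true := by decide +kernel
theorem ordP_f9 : ∀ k, 288 ≤ k → k < 320 → allRange (guard nn ordP) 8 (k * 2 ^ 8) = true := by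
  intro k h1 h2
  interval_cases k
  · exact ordP_blk288
  · exact ordP_blk289
  · exact ordP_blk290
  · exact ordP_blk291
  · exact ordP_blk292
  · exact ordP_blk293
  · exact ordP_blk294
  · exact ordP_blk295
  · exact ordP_blk296
  · exact ordP_blk297
  · exact ordP_blk298
  · exact ordP_blk299
  · exact ordP_blk300
  · exact ordP_blk301
  · exact ordP_blk302
  · exact ordP_blk303
  · exact ordP_blk304
  · exact ordP_blk305
  · exact ordP_blk306
  · exact ordP_blk307
  · exact ordP_blk308
  · exact ordP_blk309
  · exact ordP_blk310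
  · exact ordP_blk311
  · exact ordP_blk312
  · exact ordP_blk313
  · exact ordP_blk314
  · exact ordP_blk315
  · exact ordP_blk316
  · exact ordP_blk317
  · exact ordP_blk318
  · exact ordP_blk319

end

end Cfsg.Agent.Lib.Helper56.ONPerm
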