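import Cfsg.Agent.Lib.Helper56.ONPerm.Data0

set_option autoImplicit false
set_option linter.unusedVariables false

namespace Cfsg.Agent.Lib.Helper56.ONPerm

open Cfsg.Spor.ON (Gen)
open Cfsg.Agent.Lib.Helper28 Cfsg.Agent.Lib.Helper28.TC Cfsg.Agent.Lib.Helper28.TC2 Cfsg.Agent.Lib.Helper28.ON122760

noncomputable section

theorem orb0_count : countRange (fun i => band (nlt i nn) (OC0.inO i)) 17 0 = 122760 := by decide +kernel
theorem orb0_root : OC0.inO 0 = true := by decide +kernel
theorem fix0 : allList (fun w => allList (fun b => Nat.beq (act tf w b) b) []) words0 = true := by decide +kernel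

end

end Cfsg.Agent.Lib.Helper56.ONPerm
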