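import Cfsg.Agent.Lib.Helper56.ONPerm.Data1

set_option autoImplicit false
set_option linter.unusedVariables false
set_option Elab.async false

namespace Cfsg.Agent.Lib.Helper56.ONPerm

open Cfsg.Spor.ON (Gen)
open Cfsg.Agent.Lib.Helper28 Cfsg.Agent.Lib.Helper28.TC Cfsg.Agent.Lib.Helper28.TC2 Cfsg.Agent.Lib.Helper28.ON122760

noncomputable section

theorem orbP1_blk0 : allRange (guard nn orbP1) 10 (0 * 2 ^ 10) = true := by decide +kernel
theorem orbP1_blk1 : allRange (guard nn orbP1) 10 (1 * 2 ^ 10) = true := by decide +kernel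
theorem orbP1_blk2 : allRange (guard nn orbP1) 10 (2 * 2 ^ 10) = true := by decide +kernel
theorem orbP1_blk3 : allRange (guard nn orbP1) 10 (3 * 2 ^ 10) = true := by decide +kernel
theorem orbP1_blk4 : allRange (guard nn orbP1) 10 (4 * 2 ^ 10) = true := by decide +kernel
theorem orbP1_blk5 : allRange (guard nn orbP1) 10 (5 * 2 ^ 10) = true := by decide +kernel
theorem orbP1_blk6 : allRange (guard nn orbP1) 10 (6 * 2 ^ 10) = true := by decide +kernel
theorem orbP1_blk7 : allRange (guard nn orbP1) 10 (7 * 2 ^ 10) = true := by decide +kernel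
theorem orbP1_blk8 : allRange (guard nn orbP1) 10 (8 * 2 ^ 10) = true := by decide +kernel
theorem orbP1_blk9 : allRange (guard nn orbP1) 10 (9 * 2 ^ 10) = true := by decide +kernel
theorem orbP1_blk10 : allRange (guard nn orbP1) 10 (10 * 2 ^ 10) = true := by decide +kernel
theorem orbP1_blk11 : allRange (guard nn orbP1) 10 (11 * 2 ^ 10) = true := by decide +kernel
theorem orbP1_blk12 : allRange (guard nn orbP1) 10 (12 * 2 ^ 10) = true := by decide +kernel
theorem orbP1_blk13 : allRange (guard nn orbP1) 10 (13 * 2 ^ 10) = true := by decide +kernel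
theorem orbP1_blk14 : allRange (guard nn orbP1) 10 (14 * 2 ^ 10) = true := by decide +kernel
theorem orbP1_blk15 : allRange (guard nn orbP1) 10 (15 * 2 ^ 10) = true := by decide +kernel
theorem orbP1_blk16 : allRange (guard nn orbP1) 10 (16 * 2 ^ 10) = true := by decide +kernel
theorem orbP1_blk17 : allRange (guard nn orbP1) 10 (17 * 2 ^ 10) = true := by decide +kernel
theorem orbP1_blk18 : allRange (guard nn orbP1) 10 (18 * 2 ^ 10) = true := by decide +kernel
theorem orbP1_blk19 : allRange (guard nn orbP1) 10 (19 * 2 ^ 10) = true := by decide +kernel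
theorem orbP1_blk20 : allRange (guard nn orbP1) 10 (20 * 2 ^ 10) = true := by decide +kernel
theorem orbP1_blk21 : allRange (guard nn orbP1) 10 (21 * 2 ^ 10) = true := by decide +kernel
theorem orbP1_blk22 : allRange (guard nn orbP1) 10 (22 * 2 ^ 10) = true := by decide +kernel
theorem orbP1_blk23 : allRange (guard nn orbP1) 10 (23 * 2 ^ 10) = true := by decide +kernel
theorem orbP1_blk24 : allRange (guard nn orbP1) 10 (24 * 2 ^ 10) = true := by decide +kernel
theorem orbP1_blk25 : allRange (guard nn orbP1) 10 (25 * 2 ^ 10) = true := by decide +kernel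
theorem orbP1_blk26 : allRange (guard nn orbP1) 10 (26 * 2 ^ 10) = true := by decide +kernel
theorem orbP1_blk27 : allRange (guard nn orbP1) 10 (27 * 2 ^ 10) = true := by decide +kernel
theorem orbP1_blk28 : allRange (guard nn orbP1) 10 (28 * 2 ^ 10) = true := by decide +kernel
theorem orbP1_blk29 : allRange (guard nn orbP1) 10 (29 * 2 ^ 10) = true := by decide +kernel
theorem orbP1_f0 : ∀ k, 0 ≤ k → k < 30 → allRange (guard nn orbP1) 10 (k * 2 ^ 10) = true := by
  intro k h1 h2
  interval_cases k
  · exact orbP1_blk0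
  · exact orbP1_blk1
  · exact orbP1_blk2
  · exact orbP1_blk3
  · exact orbP1_blk4
  · exact orbP1_blk5
  · exact orbP1_blk6
  · exact orbP1_blk7
  · exact orbP1_blk8
  · exact orbP1_blk9
  · exact orbP1_blk10
  · exact orbP1_blk11
  · exact orbP1_blk12
  · exact orbP1_blk13
  · exact orbP1_blk14
  · exact orbP1_blk15
  · exact orbP1_blk16
  · exact orbP1_blk17
  · exact orbP1_blk18
  · exact orbP1_blk19
  · exact orbP1_blk20
  · exact orbP1_blk21
  · exact orbP1_blk22
  · exact orbP1_blk23
  · exact orbP1_blk24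
  · exact orbP1_blk25
  · exact orbP1_blk26
  · exact orbP1_blk27
  · exact orbP1_blk28
  · exact orbP1_blk29

end

end Cfsg.Agent.Lib.Helper56.ONPerm
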