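import Cfsg.Agent.Lib.Helper56.ONPerm.Data1

set_option autoImplicit false
set_option linter.unusedVariables false
set_option Elab.async false

namespace Cfsg.Agent.Lib.Helper56.ONPerm

open Cfsg.Spor.ON (Gen)
open Cfsg.Agent.Lib.Helper28 Cfsg.Agent.Lib.Helper28.TC Cfsg.Agent.Lib.Helper28.TC2 Cfsg.Agent.Lib.Helper28.ON122760

noncomputable section

theorem orbP1_blk60 : allRange (guard nn orbP1) 10 (60 * 2 ^ 10) = true := by decide +kernel
theorem orbP1_blk61 : allRange (guard nn orbP1) 10 (61 * 2 ^ 10) = true := by decide +kernel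
theorem orbP1_blk62 : allRange (guard nn orbP1) 10 (62 * 2 ^ 10) = true := by decide +kernel
theorem orbP1_blk63 : allRange (guard nn orbP1) 10 (63 * 2 ^ 10) = true := by decide +kernel
theorem orbP1_blk64 : allRange (guard nn orbP1) 10 (64 * 2 ^ 10) = true := by decide +kernel
theorem orbP1_blk65 : allRange (guard nn orbP1) 10 (65 * 2 ^ 10) = true := by decide +kernel
theorem orbP1_blk66 : allRange (guard nn orbP1) 10 (66 * 2 ^ 10) = true := by decide +kernel
theorem orbP1_blk67 : allRange (guard nn orbP1) 10 (67 * 2 ^ 10) = true := by decide +kernel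
theorem orbP1_blk68 : allRange (guard nn orbP1) 10 (68 * 2 ^ 10) = true := by decide +kernel
theorem orbP1_blk69 : allRange (guard nn orbP1) 10 (69 * 2 ^ 10) = true := by decide +kernel
theorem orbP1_blk70 : allRange (guard nn orbP1) 10 (70 * 2 ^ 10) = true := by decide +kernel
theorem orbP1_blk71 : allRange (guard nn orbP1) 10 (71 * 2 ^ 10) = true := by decide +kernel
theorem orbP1_blk72 : allRange (guard nn orbP1) 10 (72 * 2 ^ 10) = true := by decide +kernel
theorem orbP1_blk73 : allRange (guard nn orbP1) 10 (73 * 2 ^ 10) = true := by decide +kernel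
theorem orbP1_blk74 : allRange (guard nn orbP1) 10 (74 * 2 ^ 10) = true := by decide +kernel
theorem orbP1_blk75 : allRange (guard nn orbP1) 10 (75 * 2 ^ 10) = true := by decide +kernel
theorem orbP1_blk76 : allRange (guard nn orbP1) 10 (76 * 2 ^ 10) = true := by decide +kernel
theorem orbP1_blk77 : allRange (guard nn orbP1) 10 (77 * 2 ^ 10) = true := by decide +kernel
theorem orbP1_blk78 : allRange (guard nn orbP1) 10 (78 * 2 ^ 10) = true := by decide +kernel
theorem orbP1_blk79 : allRange (guard nn orbP1) 10 (79 * 2 ^ 10) = true := by decide +kernel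
theorem orbP1_blk80 : allRange (guard nn orbP1) 10 (80 * 2 ^ 10) = true := by decide +kernel
theorem orbP1_blk81 : allRange (guard nn orbP1) 10 (81 * 2 ^ 10) = true := by decide +kernel
theorem orbP1_blk82 : allRange (guard nn orbP1) 10 (82 * 2 ^ 10) = true := by decide +kernel
theorem orbP1_blk83 : allRange (guard nn orbP1) 10 (83 * 2 ^ 10) = true := by decide +kernel
theorem orbP1_blk84 : allRange (guard nn orbP1) 10 (84 * 2 ^ 10) = true := by decide +kernel
theorem orbP1_blk85 : allRange (guard nn orbP1) 10 (85 * 2 ^ 10) = true := by decide +kernel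
theorem orbP1_blk86 : allRange (guard nn orbP1) 10 (86 * 2 ^ 10) = true := by decide +kernel
theorem orbP1_blk87 : allRange (guard nn orbP1) 10 (87 * 2 ^ 10) = true := by decide +kernel
theorem orbP1_blk88 : allRange (guard nn orbP1) 10 (88 * 2 ^ 10) = true := by decide +kernel
theorem orbP1_blk89 : allRange (guard nn orbP1) 10 (89 * 2 ^ 10) = true := by decide +kernel
theorem orbP1_f2 : ∀ k, 60 ≤ k → k < 90 → allRange (guard nn orbP1) 10 (k * 2 ^ 10) = true := by
  intro k h1 h2
  interval_cases k
  · exact orbP1_blk60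
  · exact orbP1_blk61
  · exact orbP1_blk62
  · exact orbP1_blk63
  · exact orbP1_blk64
  · exact orbP1_blk65
  · exact orbP1_blk66
  · exact orbP1_blk67
  · exact orbP1_blk68
  · exact orbP1_blk69
  · exact orbP1_blk70
  · exact orbP1_blk71
  · exact orbP1_blk72
  · exact orbP1_blk73
  · exact orbP1_blk74
  · exact orbP1_blk75
  · exact orbP1_blk76
  · exact orbP1_blk77
  · exact orbP1_blk78
  · exact orbP1_blk79
  · exact orbP1_blk80
  · exact orbP1_blk81
  · exact orbP1_blk82
  · exact orbP1_blk83
  · exact orbP1_blk84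
  · exact orbP1_blk85
  · exact orbP1_blk86
  · exact orbP1_blk87
  · exact orbP1_blk88
  · exact orbP1_blk89

end

end Cfsg.Agent.Lib.Helper56.ONPerm
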