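import Cfsg.Agent.Lib.Helper56.ONPerm.DataS

set_option autoImplicit false
set_option linter.unusedVariables false
set_option Elab.async false

namespace Cfsg.Agent.Lib.Helper56.ONPerm

open Cfsg.Spor.ON (Gen)
open Cfsg.Agent.Lib.Helper28 Cfsg.Agent.Lib.Helper28.TC Cfsg.Agent.Lib.Helper28.TC2 Cfsg.Agent.Lib.Helper28.ON122760

noncomputable section

theorem subP3_blk30 : allRange (guard nn subP3) 10 (30 * 2 ^ 10) = true := by decide +kernel
theorem subP3_blk31 : allRange (guard nn subP3) 10 (31 * 2 ^ 10) = true := by decide +kernel
theorem subP3_blk32 : allRange (guard nn subP3) 10 (32 * 2 ^ 10) = true := by decide +kernel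
theorem subP3_blk33 : allRange (guard nn subP3) 10 (33 * 2 ^ 10) = true := by decide +kernel
theorem subP3_blk34 : allRange (guard nn subP3) 10 (34 * 2 ^ 10) = true := by decide +kernel
theorem subP3_blk35 : allRange (guard nn subP3) 10 (35 * 2 ^ 10) = true := by decide +kernel
theorem subP3_blk36 : allRange (guard nn subP3) 10 (36 * 2 ^ 10) = true := by decide +kernel
theorem subP3_blk37 : allRange (guard nn subP3) 10 (37 * 2 ^ 10) = true := by decide +kernel
theorem subP3_blk38 : allRange (guard nn subP3) 10 (38 * 2 ^ 10) = true := by decide +kernel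
theorem subP3_blk39 : allRange (guard nn subP3) 10 (39 * 2 ^ 10) = true := by decide +kernel
theorem subP3_blk40 : allRange (guard nn subP3) 10 (40 * 2 ^ 10) = true := by decide +kernel
theorem subP3_blk41 : allRange (guard nn subP3) 10 (41 * 2 ^ 10) = true := by decide +kernel
theorem subP3_blk42 : allRange (guard nn subP3) 10 (42 * 2 ^ 10) = true := by decide +kernel
theorem subP3_blk43 : allRange (guard nn subP3) 10 (43 * 2 ^ 10) = true := by decide +kernel
theorem subP3_blk44 : allRange (guard nn subP3) 10 (44 * 2 ^ 10) = true := by decide +kernel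
theorem subP3_blk45 : allRange (guard nn subP3) 10 (45 * 2 ^ 10) = true := by decide +kernel
theorem subP3_blk46 : allRange (guard nn subP3) 10 (46 * 2 ^ 10) = true := by decide +kernel
theorem subP3_blk47 : allRange (guard nn subP3) 10 (47 * 2 ^ 10) = true := by decide +kernel
theorem subP3_blk48 : allRange (guard nn subP3) 10 (48 * 2 ^ 10) = true := by decide +kernel
theorem subP3_blk49 : allRange (guard nn subP3) 10 (49 * 2 ^ 10) = true := by decide +kernel
theorem subP3_blk50 : allRange (guard nn subP3) 10 (50 * 2 ^ 10) = true := by decide +kernel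
theorem subP3_blk51 : allRange (guard nn subP3) 10 (51 * 2 ^ 10) = true := by decide +kernel
theorem subP3_blk52 : allRange (guard nn subP3) 10 (52 * 2 ^ 10) = true := by decide +kernel
theorem subP3_blk53 : allRange (guard nn subP3) 10 (53 * 2 ^ 10) = true := by decide +kernel
theorem subP3_blk54 : allRange (guard nn subP3) 10 (54 * 2 ^ 10) = true := by decide +kernel
theorem subP3_blk55 : allRange (guard nn subP3) 10 (55 * 2 ^ 10) = true := by decide +kernel
theorem subP3_blk56 : allRange (guard nn subP3) 10 (56 * 2 ^ 10) = true := by decide +kernel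
theorem subP3_blk57 : allRange (guard nn subP3) 10 (57 * 2 ^ 10) = true := by decide +kernel
theorem subP3_blk58 : allRange (guard nn subP3) 10 (58 * 2 ^ 10) = true := by decide +kernel
theorem subP3_blk59 : allRange (guard nn subP3) 10 (59 * 2 ^ 10) = true := by decide +kernel
theorem subP3_f1 : ∀ k, 30 ≤ k → k < 60 → allRange (guard nn subP3) 10 (k * 2 ^ 10) = true := by
  intro k h1 h2
  interval_cases k
  · exact subP3_blk30
  · exact subP3_blk31
  · exact subP3_blk32
  · exact subP3_blk33
  · exact subP3_blk34
  · exact subP3_blk35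
  · exact subP3_blk36
  · exact subP3_blk37
  · exact subP3_blk38
  · exact subP3_blk39
  · exact subP3_blk40
  · exact subP3_blk41
  · exact subP3_blk42
  · exact subP3_blk43
  · exact subP3_blk44
  · exact subP3_blk45
  · exact subP3_blk46
  · exact subP3_blk47
  · exact subP3_blk48
  · exact subP3_blk49
  · exact subP3_blk50
  · exact subP3_blk51
  · exact subP3_blk52
  · exact subP3_blk53
  · exact subP3_blk54
  · exact subP3_blk55
  · exact subP3_blk56
  · exact subP3_blk57
  · exact subP3_blk58
  · exact subP3_blk59

end

end Cfsg.Agent.Lib.Helper56.ONPerm
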