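import Cfsg.Agent.Lib.Helper56.ONPerm.DataS

set_option autoImplicit false
set_option linter.unusedVariables false
set_option Elab.async false

namespace Cfsg.Agent.Lib.Helper56.ONPerm

open Cfsg.Spor.ON (Gen)
open Cfsg.Agent.Lib.Helper28 Cfsg.Agent.Lib.Helper28.TC Cfsg.Agent.Lib.Helper28.TC2 Cfsg.Agent.Lib.Helper28.ON122760

noncomputable section

theorem subP4_blk0 : allRange (guard nn subP4) 10 (0 * 2 ^ 10) = true := by decide +kernel
theorem subP4_blk1 : allRange (guard nn subP4) 10 (1 * 2 ^ 10) = true := by decide +kernel
theorem subP4_blk2 : allRange (guard nn subP4) 10 (2 * 2 ^ 10) = true := by decide +kernel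
theorem subP4_blk3 : allRange (guard nn subP4) 10 (3 * 2 ^ 10) = true := by decide +kernel
theorem subP4_blk4 : allRange (guard nn subP4) 10 (4 * 2 ^ 10) = true := by decide +kernel
theorem subP4_blk5 : allRange (guard nn subP4) 10 (5 * 2 ^ 10) = true := by decide +kernel
theorem subP4_blk6 : allRange (guard nn subP4) 10 (6 * 2 ^ 10) = true := by decide +kernel
theorem subP4_blk7 : allRange (guard nn subP4) 10 (7 * 2 ^ 10) = true := by decide +kernel
theorem subP4_blk8 : allRange (guard nn subP4) 10 (8 * 2 ^ 10) = true := by decide +kernel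
theorem subP4_blk9 : allRange (guard nn subP4) 10 (9 * 2 ^ 10) = true := by decide +kernel
theorem subP4_blk10 : allRange (guard nn subP4) 10 (10 * 2 ^ 10) = true := by decide +kernel
theorem subP4_blk11 : allRange (guard nn subP4) 10 (11 * 2 ^ 10) = true := by decide +kernel
theorem subP4_blk12 : allRange (guard nn subP4) 10 (12 * 2 ^ 10) = true := by decide +kernel
theorem subP4_blk13 : allRange (guard nn subP4) 10 (13 * 2 ^ 10) = true := by decide +kernel
theorem subP4_blk14 : allRange (guard nn subP4) 10 (14 * 2 ^ 10) = true := by decide +kernel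
theorem subP4_blk15 : allRange (guard nn subP4) 10 (15 * 2 ^ 10) = true := by decide +kernel
theorem subP4_blk16 : allRange (guard nn subP4) 10 (16 * 2 ^ 10) = true := by decide +kernel
theorem subP4_blk17 : allRange (guard nn subP4) 10 (17 * 2 ^ 10) = true := by decide +kernel
theorem subP4_blk18 : allRange (guard nn subP4) 10 (18 * 2 ^ 10) = true := by decide +kernel
theorem subP4_blk19 : allRange (guard nn subP4) 10 (19 * 2 ^ 10) = true := by decide +kernel
theorem subP4_blk20 : allRange (guard nn subP4) 10 (20 * 2 ^ 10) = true := by decide +kernel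
theorem subP4_blk21 : allRange (guard nn subP4) 10 (21 * 2 ^ 10) = true := by decide +kernel
theorem subP4_blk22 : allRange (guard nn subP4) 10 (22 * 2 ^ 10) = true := by decide +kernel
theorem subP4_blk23 : allRange (guard nn subP4) 10 (23 * 2 ^ 10) = true := by decide +kernel
theorem subP4_blk24 : allRange (guard nn subP4) 10 (24 * 2 ^ 10) = true := by decide +kernel
theorem subP4_blk25 : allRange (guard nn subP4) 10 (25 * 2 ^ 10) = true := by decide +kernel
theorem subP4_blk26 : allRange (guard nn subP4) 10 (26 * 2 ^ 10) = true := by decide +kernel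
theorem subP4_blk27 : allRange (guard nn subP4) 10 (27 * 2 ^ 10) = true := by decide +kernel
theorem subP4_blk28 : allRange (guard nn subP4) 10 (28 * 2 ^ 10) = true := by decide +kernel
theorem subP4_blk29 : allRange (guard nn subP4) 10 (29 * 2 ^ 10) = true := by decide +kernel
theorem subP4_f0 : ∀ k, 0 ≤ k → k < 30 → allRange (guard nn subP4) 10 (k * 2 ^ 10) = true := by
  intro k h1 h2
  interval_cases k
  · exact subP4_blk0
  · exact subP4_blk1
  · exact subP4_blk2
  · exact subP4_blk3
  · exact subP4_blk4
  · exact subP4_blk5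
  · exact subP4_blk6
  · exact subP4_blk7
  · exact subP4_blk8
  · exact subP4_blk9
  · exact subP4_blk10
  · exact subP4_blk11
  · exact subP4_blk12
  · exact subP4_blk13
  · exact subP4_blk14
  · exact subP4_blk15
  · exact subP4_blk16
  · exact subP4_blk17
  · exact subP4_blk18
  · exact subP4_blk19
  · exact subP4_blk20
  · exact subP4_blk21
  · exact subP4_blk22
  · exact subP4_blk23
  · exact subP4_blk24
  · exact subP4_blk25
  · exact subP4_blk26
  · exact subP4_blk27
  · exact subP4_blk28
  · exact subP4_blk29

end

end Cfsg.Agent.Lib.Helper56.ONPerm
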