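import Cfsg.Agent.Lib.Helper56.ONPerm.DataS

set_option autoImplicit false
set_option linter.unusedVariables false
set_option Elab.async false

namespace Cfsg.Agent.Lib.Helper56.ONPerm

open Cfsg.Spor.ON (Gen)
open Cfsg.Agent.Lib.Helper28 Cfsg.Agent.Lib.Helper28.TC Cfsg.Agent.Lib.Helper28.TC2 Cfsg.Agent.Lib.Helper28.ON122760

noncomputable section

theorem subP4_blk90 : allRange (guard nn subP4) 10 (90 * 2 ^ 10) = true := by decide +kernel
theorem subP4_blk91 : allRange (guard nn subP4) 10 (91 * 2 ^ 10) = true := by decide +kernel
theorem subP4_blk92 : allRange (guard nn subP4) 10 (92 * 2 ^ 10) = true := by decide +kernel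
theorem subP4_blk93 : allRange (guard nn subP4) 10 (93 * 2 ^ 10) = true := by decide +kernel
theorem subP4_blk94 : allRange (guard nn subP4) 10 (94 * 2 ^ 10) = true := by decide +kernel
theorem subP4_blk95 : allRange (guard nn subP4) 10 (95 * 2 ^ 10) = true := by decide +kernel
theorem subP4_blk96 : allRange (guard nn subP4) 10 (96 * 2 ^ 10) = true := by decide +kernel
theorem subP4_blk97 : allRange (guard nn subP4) 10 (97 * 2 ^ 10) = true := by decide +kernel
theorem subP4_blk98 : allRange (guard nn subP4) 10 (98 * 2 ^ 10) = true := by decide +kernel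
theorem subP4_blk99 : allRange (guard nn subP4) 10 (99 * 2 ^ 10) = true := by decide +kernel
theorem subP4_blk100 : allRange (guard nn subP4) 10 (100 * 2 ^ 10) = true := by decide +kernel
theorem subP4_blk101 : allRange (guard nn subP4) 10 (101 * 2 ^ 10) = true := by decide +kernel
theorem subP4_blk102 : allRange (guard nn subP4) 10 (102 * 2 ^ 10) = true := by decide +kernel
theorem subP4_blk103 : allRange (guard nn subP4) 10 (103 * 2 ^ 10) = true := by decide +kernel
theorem subP4_blk104 : allRange (guard nn subP4) 10 (104 * 2 ^ 10) = true := by decide +kernel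
theorem subP4_blk105 : allRange (guard nn subP4) 10 (105 * 2 ^ 10) = true := by decide +kernel
theorem subP4_blk106 : allRange (guard nn subP4) 10 (106 * 2 ^ 10) = true := by decide +kernel
theorem subP4_blk107 : allRange (guard nn subP4) 10 (107 * 2 ^ 10) = true := by decide +kernel
theorem subP4_blk108 : allRange (guard nn subP4) 10 (108 * 2 ^ 10) = true := by decide +kernel
theorem subP4_blk109 : allRange (guard nn subP4) 10 (109 * 2 ^ 10) = true := by decide +kernel
theorem subP4_blk110 : allRange (guard nn subP4) 10 (110 * 2 ^ 10) = true := by decide +kernel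
theorem subP4_blk111 : allRange (guard nn subP4) 10 (111 * 2 ^ 10) = true := by decide +kernel
theorem subP4_blk112 : allRange (guard nn subP4) 10 (112 * 2 ^ 10) = true := by decide +kernel
theorem subP4_blk113 : allRange (guard nn subP4) 10 (113 * 2 ^ 10) = true := by decide +kernel
theorem subP4_blk114 : allRange (guard nn subP4) 10 (114 * 2 ^ 10) = true := by decide +kernel
theorem subP4_blk115 : allRange (guard nn subP4) 10 (115 * 2 ^ 10) = true := by decide +kernel
theorem subP4_blk116 : allRange (guard nn subP4) 10 (116 * 2 ^ 10) = true := by decide +kernel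
theorem subP4_blk117 : allRange (guard nn subP4) 10 (117 * 2 ^ 10) = true := by decide +kernel
theorem subP4_blk118 : allRange (guard nn subP4) 10 (118 * 2 ^ 10) = true := by decide +kernel
theorem subP4_blk119 : allRange (guard nn subP4) 10 (119 * 2 ^ 10) = true := by decide +kernel
theorem subP4_f3 : ∀ k, 90 ≤ k → k < 120 → allRange (guard nn subP4) 10 (k * 2 ^ 10) = true := by
  intro k h1 h2
  interval_cases k
  · exact subP4_blk90
  · exact subP4_blk91
  · exact subP4_blk92
  · exact subP4_blk93
  · exact subP4_blk94
  · exact subP4_blk95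
  · exact subP4_blk96
  · exact subP4_blk97
  · exact subP4_blk98
  · exact subP4_blk99
  · exact subP4_blk100
  · exact subP4_blk101
  · exact subP4_blk102
  · exact subP4_blk103
  · exact subP4_blk104
  · exact subP4_blk105
  · exact subP4_blk106
  · exact subP4_blk107
  · exact subP4_blk108
  · exact subP4_blk109
  · exact subP4_blk110
  · exact subP4_blk111
  · exact subP4_blk112
  · exact subP4_blk113
  · exact subP4_blk114
  · exact subP4_blk115
  · exact subP4_blk116
  · exact subP4_blk117
  · exact subP4_blk118
  · exact subP4_blk119

end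

end Cfsg.Agent.Lib.Helper56.ONPerm
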