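import Cfsg.Agent.Lib.Helper56.ONPerm.ChkO0x0
import Cfsg.Agent.Lib.Helper56.ONPerm.ChkO0x1
import Cfsg.Agent.Lib.Helper56.ONPerm.ChkO0x2
import Cfsg.Agent.Lib.Helper56.ONPerm.ChkO0x3
import Cfsg.Agent.Lib.Helper56.ONPerm.ChkO0
import Cfsg.Agent.Lib.Helper56.ONPerm.ChkO1x0
import Cfsg.Agent.Lib.Helper56.ONPerm.ChkO1x1
import Cfsg.Agent.Lib.Helper56.ONPerm.ChkO1x2
import Cfsg.Agent.Lib.Helper56.ONPerm.ChkO1x3
import Cfsg.Agent.Lib.Helper56.ONPerm.ChkO1
import Cfsg.Agent.Lib.Helper56.ONPerm.ChkO2x0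
import Cfsg.Agent.Lib.Helper56.ONPerm.ChkO2x1
import Cfsg.Agent.Lib.Helper56.ONPerm.ChkO2x2
import Cfsg.Agent.Lib.Helper56.ONPerm.ChkO2x3
import Cfsg.Agent.Lib.Helper56.ONPerm.ChkO2
import Cfsg.Agent.Lib.Helper56.ONPerm.ChkLx0
import Cfsg.Agent.Lib.Helper56.ONPerm.ChkS1x0
import Cfsg.Agent.Lib.Helper56.ONPerm.ChkS1x1
import Cfsg.Agent.Lib.Helper56.ONPerm.ChkS1x2
import Cfsg.Agent.Lib.Helper56.ONPerm.ChkS1x3
import Cfsg.Agent.Lib.Helper56.ONPerm.ChkS2x0
import Cfsg.Agent.Lib.Helper56.ONPerm.ChkS2x1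
import Cfsg.Agent.Lib.Helper56.ONPerm.ChkS2x2
import Cfsg.Agent.Lib.Helper56.ONPerm.ChkS2x3
import Cfsg.Agent.Lib.Helper56.ONPerm.ChkS3x0
import Cfsg.Agent.Lib.Helper56.ONPerm.ChkS3x1
import Cfsg.Agent.Lib.Helper56.ONPerm.ChkS3x2
import Cfsg.Agent.Lib.Helper56.ONPerm.ChkS3x3
import Cfsg.Agent.Lib.Helper56.ONPerm.ChkS4x0
import Cfsg.Agent.Lib.Helper56.ONPerm.ChkS4x1
import Cfsg.Agent.Lib.Helper56.ONPerm.ChkS4x2
import Cfsg.Agent.Lib.Helper56.ONPerm.ChkS4x3
import Cfsg.Agent.Lib.Helper56.ONPerm.ChkS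
import Cfsg.Agent.Lib.Helper56.ONPerm.ChkEx0
import Cfsg.Agent.Lib.Helper56.ONPerm.ChkEx1
import Cfsg.Agent.Lib.Helper56.ONPerm.ChkEx2
import Cfsg.Agent.Lib.Helper56.ONPerm.ChkEx3
import Cfsg.Agent.Lib.Helper56.ONPerm.ChkEx4
import Cfsg.Agent.Lib.Helper56.ONPerm.ChkEx5
import Cfsg.Agent.Lib.Helper56.ONPerm.ChkEx6
import Cfsg.Agent.Lib.Helper56.ONPerm.ChkEx7
import Cfsg.Agent.Lib.Helper56.ONPerm.ChkEx8
import Cfsg.Agent.Lib.Helper56.ONPerm.ChkEx9
import Cfsg.Agent.Lib.Helper56.ONPerm.ChkEx10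
import Cfsg.Agent.Lib.Helper56.ONPerm.ChkEx11
import Cfsg.Agent.Lib.Helper56.ONPerm.ChkEx12
import Cfsg.Agent.Lib.Helper56.ONPerm.ChkEx13
import Cfsg.Agent.Lib.Helper56.ONPerm.ChkEx14

set_option autoImplicit false
set_option linter.unusedVariables false

namespace Cfsg.Agent.Lib.Helper56.ONPerm

open Cfsg.Spor.ON (Gen)
open Cfsg.Agent.Lib.Helper28 Cfsg.Agent.Lib.Helper28.TC Cfsg.Agent.Lib.Helper28.TC2 Cfsg.Agent.Lib.Helper28.ON122760

noncomputable section

theorem orbP0_allk : ∀ k, k < 120 → allRange (guard nn orbP0) 10 (k * 2 ^ 10) = true := by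
  intro k hk
  by_cases h0 : k < 30
  · exact orbP0_f0 k (by omega) h0
  by_cases h1 : k < 60
  · exact orbP0_f1 k (by omega) h1
  by_cases h2 : k < 90
  · exact orbP0_f2 k (by omega) h2
  exact orbP0_f3 k (by omega) hk
theorem orbP0_all : ∀ i, i < nn → orbP0 i = true :=
  all_of_blocks nn orbP0 10 120 (by decide) orbP0_allk
theorem orbP1_allk : ∀ k, k < 120 → allRange (guard nn orbP1) 10 (k * 2 ^ 10) = true := by
  intro k hk
  by_cases h0 : k < 30
  · exact orbP1_f0 k (by omega) h0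
  by_cases h1 : k < 60
  · exact orbP1_f1 k (by omega) h1
  by_cases h2 : k < 90
  · exact orbP1_f2 k (by omega) h2
  exact orbP1_f3 k (by omega) hk
theorem orbP1_all : ∀ i, i < nn → orbP1 i = true :=
  all_of_blocks nn orbP1 10 120 (by decide) orbP1_allk
theorem orbP2_allk : ∀ k, k < 120 → allRange (guard nn orbP2) 10 (k * 2 ^ 10) = true := by
  intro k hk
  by_cases h0 : k < 30
  · exact orbP2_f0 k (by omega) h0
  by_cases h1 : k < 60
  · exact orbP2_f1 k (by omega) h1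
  by_cases h2 : k < 90
  · exact orbP2_f2 k (by omega) h2
  exact orbP2_f3 k (by omega) hk
theorem orbP2_all : ∀ i, i < nn → orbP2 i = true :=
  all_of_blocks nn orbP2 10 120 (by decide) orbP2_allk
theorem labP_allk : ∀ k, k < 30 → allRange (guard nn labP) 12 (k * 2 ^ 12) = true := by
  intro k hk
  exact labP_f0 k (by omega) hk
theorem labP_all : ∀ i, i < nn → labP i = true :=
  all_of_blocks nn labP 12 30 (by decide) labP_allk
theorem subP1_allk : ∀ k, k < 120 → allRange (guard nn subP1) 10 (k * 2 ^ 10) = true := by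
  intro k hk
  by_cases h0 : k < 30
  · exact subP1_f0 k (by omega) h0
  by_cases h1 : k < 60
  · exact subP1_f1 k (by omega) h1
  by_cases h2 : k < 90
  · exact subP1_f2 k (by omega) h2
  exact subP1_f3 k (by omega) hk
theorem subP1_all : ∀ i, i < nn → subP1 i = true :=
  all_of_blocks nn subP1 10 120 (by decide) subP1_allk
theorem subP2_allk : ∀ k, k < 120 → allRange (guard nn subP2) 10 (k * 2 ^ 10) = true := by
  intro k hk
  by_cases h0 : k < 30
  · exact subP2_f0 k (by omega) h0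
  by_cases h1 : k < 60
  · exact subP2_f1 k (by omega) h1
  by_cases h2 : k < 90
  · exact subP2_f2 k (by omega) h2
  exact subP2_f3 k (by omega) hk
theorem subP2_all : ∀ i, i < nn → subP2 i = true :=
  all_of_blocks nn subP2 10 120 (by decide) subP2_allk
theorem subP3_allk : ∀ k, k < 120 → allRange (guard nn subP3) 10 (k * 2 ^ 10) = true := by
  intro k hk
  by_cases h0 : k < 30
  · exact subP3_f0 k (by omega) h0
  by_cases h1 : k < 60
  · exact subP3_f1 k (by omega) h1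
  by_cases h2 : k < 90
  · exact subP3_f2 k (by omega) h2
  exact subP3_f3 k (by omega) hk
theorem subP3_all : ∀ i, i < nn → subP3 i = true :=
  all_of_blocks nn subP3 10 120 (by decide) subP3_allk
theorem subP4_allk : ∀ k, k < 120 → allRange (guard nn subP4) 10 (k * 2 ^ 10) = true := by
  intro k hk
  by_cases h0 : k < 30
  · exact subP4_f0 k (by omega) h0
  by_cases h1 : k < 60
  · exact subP4_f1 k (by omega) h1
  by_cases h2 : k < 90
  · exact subP4_f2 k (by omega) h2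
  exact subP4_f3 k (by omega) hk
theorem subP4_all : ∀ i, i < nn → subP4 i = true :=
  all_of_blocks nn subP4 10 120 (by decide) subP4_allk
theorem ordP_allk : ∀ k, k < 480 → allRange (guard nn ordP) 8 (k * 2 ^ 8) = true := by
  intro k hk
  by_cases h0 : k < 32
  · exact ordP_f0 k (by omega) h0
  by_cases h1 : k < 64
  · exact ordP_f1 k (by omega) h1
  by_cases h2 : k < 96
  · exact ordP_f2 k (by omega) h2
  by_cases h3 : k < 128
  · exact ordP_f3 k (by omega) h3
  by_cases h4 : k < 160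
  · exact ordP_f4 k (by omega) h4
  by_cases h5 : k < 192
  · exact ordP_f5 k (by omega) h5
  by_cases h6 : k < 224
  · exact ordP_f6 k (by omega) h6
  by_cases h7 : k < 256
  · exact ordP_f7 k (by omega) h7
  by_cases h8 : k < 288
  · exact ordP_f8 k (by omega) h8
  by_cases h9 : k < 320
  · exact ordP_f9 k (by omega) h9
  by_cases h10 : k < 352
  · exact ordP_f10 k (by omega) h10
  by_cases h11 : k < 384
  · exact ordP_f11 k (by omega) h11
  by_cases h12 : k < 416
  · exact ordP_f12 k (by omega) h12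
  by_cases h13 : k < 448
  · exact ordP_f13 k (by omega) h13
  exact ordP_f14 k (by omega) hk
theorem ordP_all : ∀ i, i < nn → ordP i = true :=
  all_of_blocks nn ordP 8 480 (by decide) ordP_allk
theorem conj_ok : ∀ t ∈ conjItems, t.2.2.2 = (t.2.1.map binv).reverse := by decide +kernel

end

end Cfsg.Agent.Lib.Helper56.ONPerm
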