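/-
The presented O'Nan group is simple of order 460815505920, by helper56.
Lower bound and simplicity come from the permutation representation on the 122760 cosets of
`⟨a, …, f⟩` (helper28's coset enumeration `ON122760`); the upper bound is `ONUpper.card_ON_le`.
-/
import Cfsg.Agent.Lib.Helper56.ONPerm.ChkAll
import Cfsg.Agent.Lib.Helper56.ONUpper
import Cfsg.Agent.Lib.Helper56.PermSimple2

set_option autoImplicit false

namespace Cfsg.Agent.Lib.Helper56.ONPerm

open Cfsg.Spor.ON (Gen)
open Cfsg.Agent.Lib.Helper28 Cfsg.Agent.Lib.Helper28.TC Cfsg.Agent.Lib.Helper28.TC2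
open Cfsg.Agent.Lib.Helper28.ON122760 Cfsg.Agent.Lib.Helper56.TC2Orbit
open MulAction

/-- the permutation of a word -/
noncomputable def wp (w : List Ltr) : Equiv.Perm (Fin nn) := (w.map T.perm).prod

/-- the permutation group generated by the generators -/
noncomputable def Gh : Subgroup (Equiv.Perm (Fin nn)) := Subgroup.closure (wordPerms2 T words0)

theorem words0_eq : words0 = [[some Gen.g], [some Gen.a], [some Gen.b], [some Gen.c],
    [some Gen.d], [some Gen.e], [some Gen.f]] := rfl

theorem wp_apply (w : List Ltr) (i : Fin nn) : (wp w i).val = act tf w i :=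
  T.wordPerm_apply_val w i

theorem wp_singleton (x : Ltr) : wp [x] = T.perm x := by simp [wp]

theorem wp_append (w w' : List Ltr) : wp (w ++ w') = wp w * wp w' := by simp [wp]

theorem wp_cons (x : Ltr) (w : List Ltr) : wp (x :: w) = T.perm x * wp w := by simp [wp]

theorem wp_inv (w : List Ltr) : wp ((w.map binv).reverse) = (wp w)⁻¹ :=
  wval_map_binv_reverse T.perm binv T.perm_binv w

theorem perm_some_mem_Gh (x : Gen) : T.perm (some x) ∈ Gh := by
  apply Subgroup.subset_closure
  refine ⟨[some x], ?_, (wp_singleton (some x)).symm⟩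
  rw [words0_eq]
  cases x <;> simp

theorem perm_mem_Gh (x : Ltr) : T.perm x ∈ Gh := by
  rcases x with _ | x
  · have h : T.perm (binv (some Gen.g)) = (T.perm (some Gen.g))⁻¹ := T.perm_binv _
    have h2 : binv (some Gen.g) = none := rfl
    rw [h2] at h
    rw [h]
    exact Gh.inv_mem (perm_some_mem_Gh Gen.g)
  · exact perm_some_mem_Gh x

theorem wp_mem_Gh (w : List Ltr) : wp w ∈ Gh := by
  apply Subgroup.list_prod_mem
  intro p hp
  obtain ⟨x, -, rfl⟩ := List.mem_map.1 hp
  exact perm_mem_Gh x

theorem wp_eq_one (w : List Ltr) (h : ∀ i, i < nn → act tf w i = i) : wp w = 1 :=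
  T.wordPerm_eq_one w h

theorem wp_pow (w : List Ltr) (k : ℕ) : wp (List.replicate k w).flatten = wp w ^ k :=
  WE.wval_replicate_flatten T.perm w k

theorem nn_eq : nn = 122760 := rfl

/-- the set certified by an orbit certificate -/
def oset (O : OrbCert) : Set (Fin nn) := {i | O.inO i = true}

theorem orbit_eq (words : List (List Ltr)) (O : OrbCert) (hroot : O.root < nn)
    (hrootin : O.inO O.root = true) (hrows : ∀ i, i < nn → orbRowOK tf nn words O i = true) :
    orbit (Subgroup.closure (wordPerms2 T words)) (⟨O.root, hroot⟩ : Fin nn) = oset O :=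
  orbit_eq_of_cert2 T words O hroot hrootin hrows

theorem nn_le_pow' : nn ≤ 2 ^ 17 := by decide

/-- the points of `Fin nn` with the given values -/
def mkPts (l : List ℕ) : List (Fin nn) :=
  l.filterMap fun k => if h : k < nn then some ⟨k, h⟩ else none

theorem val_mem_of_mem_mkPts (l : List ℕ) : ∀ p ∈ mkPts l, p.val ∈ l := by
  intro p hp
  unfold mkPts at hp
  rw [List.mem_filterMap] at hp
  obtain ⟨k, hk, hkp⟩ := hp
  by_cases h : k < nn
  · rw [dif_pos h] at hkp
    have : p = ⟨k, h⟩ := (Option.some.inj hkp).symm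
    rw [this]; exact hk
  · rw [dif_neg h] at hkp
    cases hkp

theorem mkPts_cons (b : ℕ) (hb : b < nn) (l : List ℕ) :
    mkPts (b :: l) = ⟨b, hb⟩ :: mkPts l := by
  unfold mkPts
  rw [List.filterMap_cons, dif_pos hb]

theorem oset_ncard (O : OrbCert) (m : ℕ)
    (hcount : countRange (fun i => band (nlt i nn) (O.inO i)) 17 0 = m) : (oset O).ncard = m := by
  unfold oset
  rw [card_fin_filter _ nn 17 nn_le_pow', hcount]

/-- one step of the stabilizer chain -/
theorem step_aux (ptsN fixN : List ℕ) (hsub : ∀ b ∈ ptsN, b ∈ fixN)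
    (words : List (List Ltr))
    (hfix : allList (fun w => allList (fun b => Nat.beq (act tf w b) b) fixN) words = true)
    (O : OrbCert) (hroot : O.root < nn) (hrootin : O.inO O.root = true)
    (hrows : ∀ i, i < nn → orbRowOK tf nn words O i = true)
    (m : ℕ) (hcount : countRange (fun i => band (nlt i nn) (O.inO i)) 17 0 = m)
    (k : ℕ) (hk : k ≤ Nat.card (ptStab Gh (mkPts (O.root :: ptsN)))) :
    m * k ≤ Nat.card (ptStab Gh (mkPts ptsN)) := by
  rw [mkPts_cons O.root hroot] at hk
  apply card_ptStab_ge Gh (mkPts ptsN) ⟨O.root, hroot⟩ (wordPerms2 T words) _ m k _ hk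
  · rintro s ⟨w, hw, rfl⟩
    refine ⟨wp_mem_Gh w, ?_⟩
    intro p hp
    apply Fin.ext
    have h1 := allList_spec _ _ hfix w hw
    have h2 := allList_spec _ _ h1 p.val (hsub _ (val_mem_of_mem_mkPts ptsN p hp))
    exact (wp_apply w p).trans (nbeq_eq_true.1 h2)
  · rw [orbit_eq words O hroot hrootin hrows, oset_ncard O m hcount]

theorem card_Gh_ge : 460815505920 ≤ Nat.card Gh := by
  have h3 : 1 ≤ Nat.card (ptStab Gh (mkPts [29, 1, 0])) := Nat.card_pos
  have h2 := step_aux [1, 0] [0, 1] (by decide) words2 fix2 OC2 (by decide) orb2_root orbP2_all 64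
    orb2_count 1 h3
  have h1 := step_aux [0] [0] (by decide) words1 fix1 OC1 (by decide) orb1_root orbP1_all 58653
    orb1_count _ h2
  have h0 := step_aux [] [] (by decide) words0 fix0 OC0 (by decide) orb0_root orbP0_all 122760
    orb0_count _ h1
  have hnil : mkPts [] = [] := rfl
  rw [hnil, ptStab_nil] at h0
  exact le_trans (by norm_num) h0

/-- the permutation representation of the presented group -/
noncomputable def π : PresentedGroup rels →* Equiv.Perm (Fin nn) := PresentedGroup.toGroup hrel

theorem π_of (x : Gen) : π (PresentedGroup.of x) = T.perm (some x) :=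
  PresentedGroup.toGroup.of hrel

theorem π_val (y : Ltr) : π (val y) = T.perm y := by
  rcases y with _ | x
  · show π ((PresentedGroup.of Gen.g)⁻¹) = T.perm none
    rw [map_inv, π_of]
    exact (T.perm_binv (some Gen.g)).symm
  · exact π_of x

theorem range_π : π.range = Gh := by
  apply le_antisymm
  · rw [MonoidHom.range_eq_map, ← PresentedGroup.closure_range_of, MonoidHom.map_closure,
      Subgroup.closure_le]
    rintro _ ⟨_, ⟨x, rfl⟩, rfl⟩
    rw [π_of]
    exact perm_mem_Gh _
  · unfold Gh
    rw [Subgroup.closure_le]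
    rintro _ ⟨w, hw, rfl⟩
    rw [words0_eq] at hw
    simp only [List.mem_cons, List.not_mem_nil, or_false] at hw
    have hx : ∃ x : Gen, w = [some x] := by
      rcases hw with rfl | rfl | rfl | rfl | rfl | rfl | rfl <;> exact ⟨_, rfl⟩
    obtain ⟨x, rfl⟩ := hx
    exact ⟨PresentedGroup.of x, by rw [π_of]; simp⟩

theorem π_mem (g : PresentedGroup rels) : π g ∈ Gh := by rw [← range_π]; exact ⟨g, rfl⟩

theorem codRestrict_bijective : Function.Bijective (π.codRestrict Gh π_mem) := by
  obtain ⟨hfin, hcard⟩ := ONUpper.card_ON_le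
  have hsurj : Function.Surjective (π.codRestrict Gh π_mem) := by
    rintro ⟨p, hp⟩
    rw [← range_π] at hp
    obtain ⟨g, rfl⟩ := hp
    exact ⟨g, rfl⟩
  exact hsurj.bijective_of_nat_card_le (le_trans hcard card_Gh_ge)

/-- the presented group is isomorphic to the permutation group -/
theorem exists_equiv : Nonempty (PresentedGroup rels ≃* Gh) :=
  ⟨MulEquiv.ofBijective _ codRestrict_bijective⟩

/-- the permutation representation is faithful -/
theorem π_injective : Function.Injective π := by
  intro x y hxy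
  apply codRestrict_bijective.1
  exact Subtype.ext hxy

theorem π_wval (w : List Ltr) : π (wval val w) = wp w := by
  unfold wval wp
  rw [map_list_prod, List.map_map]
  congr 1
  apply List.map_congr_left
  intro y _
  exact π_val y

/-- a word acting trivially on all points is trivial in the presented group -/
theorem wval_eq_one_of_act (w : List Ltr) (h : ∀ i, i < nn → act tf w i = i) :
    wval val w = 1 := by
  apply π_injective
  rw [π_wval, map_one]
  exact wp_eq_one w h

theorem card_Gh : Nat.card Gh = 460815505920 := by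
  obtain ⟨e⟩ := exists_equiv
  apply le_antisymm _ card_Gh_ge
  rw [← Nat.card_congr e.toEquiv]
  exact ONUpper.card_ON_le.2

theorem card_ON : Nat.card (PresentedGroup rels) = 460815505920 := by
  obtain ⟨e⟩ := exists_equiv
  rw [Nat.card_congr e.toEquiv, card_Gh]

/-! ### Simplicity -/

/-- the stabilizer part -/
noncomputable def Kh : Subgroup (Equiv.Perm (Fin nn)) := Subgroup.closure (wordPerms2 T wordsK)

theorem Kh_le : Kh ≤ Gh := by
  unfold Kh
  rw [Subgroup.closure_le]
  rintro _ ⟨w, -, rfl⟩
  exact wp_mem_Gh w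

theorem Kh_fix : ∀ k ∈ Kh, k (⟨0, nn_pos⟩ : Fin nn) = ⟨0, nn_pos⟩ := by
  have : Kh ≤ stabilizer (Equiv.Perm (Fin nn)) (⟨0, nn_pos⟩ : Fin nn) := by
    unfold Kh
    rw [Subgroup.closure_le]
    rintro _ ⟨w, hw, rfl⟩
    apply mem_stabilizer_iff.2
    apply Fin.ext
    have h1 := allList_spec _ _ fixK w hw
    exact (wp_apply w _).trans (nbeq_eq_true.1 h1)
  intro k hk
  exact mem_stabilizer_iff.1 (this hk)

theorem trans_of_orbit (O : OrbCert) (hroot : O.root < nn)
    (h : orbit Kh (⟨O.root, hroot⟩ : Fin nn) = oset O) :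
    ∀ d ∈ oset O, ∀ e ∈ oset O, ∃ k ∈ Kh, k d = e := by
  intro d hd e he
  rw [← h] at hd he
  obtain ⟨⟨k1, hk1⟩, rfl⟩ := hd
  obtain ⟨⟨k2, hk2⟩, rfl⟩ := he
  refine ⟨k2 * k1⁻¹, Kh.mul_mem hk2 (Kh.inv_mem hk1), ?_⟩
  show (k2 * k1⁻¹) (k1 _) = k2 _
  simp

theorem lab_spec (i : ℕ) (hi : i < nn) : lab i ≤ 4 ∧ (lab i = 0 ↔ i = 0) := by
  have h := labP_all i hi
  unfold labP at h
  rw [band_eq_true] at h
  refine ⟨Nat.le_of_ble_eq_true h.1, ?_⟩
  have h2 := h.2
  by_cases h0 : i = 0
  · subst h0
    have h3 : Nat.beq (lab 0) 0 = true := h2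
    exact ⟨fun _ => rfl, fun _ => nbeq_eq_true.1 h3⟩
  · have hb : Nat.beq i 0 = false := by
      cases hb' : Nat.beq i 0 with
      | false => rfl
      | true => exact absurd (nbeq_eq_true.1 hb') h0
    rw [hb] at h2
    have h3 : nlt 0 (lab i) = true := h2
    have h4 : 0 < lab i := nlt_eq_true.1 h3
    exact ⟨fun h5 => absurd h5 (by omega), fun h5 => absurd h5 h0⟩

/-- the suborbit label of a point -/
def cls (c : Fin nn) : ℕ := lab c.val

/-- the suborbit sizes -/
def msz (j : ℕ) : ℕ := [1, 58653, 52136, 5586, 6384].getD j 0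

theorem mem_oset_OCs (j r : ℕ) (c : Fin nn) : c ∈ oset (OCs j r) ↔ cls c = j := by
  show Nat.beq (lab c.val) j = true ↔ lab c.val = j
  exact nbeq_eq_true

theorem cls_trans (j r : ℕ) (hroot : r < nn) (hrootin : (OCs j r).inO r = true)
    (hrows : ∀ i, i < nn → orbRowOK tf nn wordsK (OCs j r) i = true)
    (d e : Fin nn) (hd : cls d = j) (he : cls e = j) : ∃ k ∈ Kh, k d = e :=
  trans_of_orbit (OCs j r) hroot (orbit_eq wordsK (OCs j r) hroot hrootin hrows) d
    ((mem_oset_OCs j r d).2 hd) e ((mem_oset_OCs j r e).2 he)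

theorem cls_card (j r m : ℕ)
    (hcount : countRange (fun i => band (nlt i nn) ((OCs j r).inO i)) 17 0 = m) :
    (Finset.univ.filter (fun c : Fin nn => cls c = j)).card = m := by
  have hset : oset (OCs j r) =
      ((Finset.univ.filter (fun c : Fin nn => cls c = j) : Finset (Fin nn)) : Set (Fin nn)) := by
    ext c
    simp only [Finset.coe_filter, Finset.mem_univ, true_and, Set.mem_ofPred_eq]
    exact mem_oset_OCs j r c
  rw [← oset_ncard (OCs j r) m hcount, hset, Set.ncard_coe_finset]

/-- the subgroup generated by the elements of order 5 -/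
noncomputable def M5 : Subgroup (Equiv.Perm (Fin nn)) :=
  Subgroup.closure {u : Equiv.Perm (Fin nn) | u ∈ Gh ∧ u ^ 5 = 1}

theorem M5_conj (g : Equiv.Perm (Fin nn)) (hg : g ∈ Gh) (m : Equiv.Perm (Fin nn)) (hm : m ∈ M5) :
    g * m * g⁻¹ ∈ M5 := by
  unfold M5 at hm ⊢
  induction hm using Subgroup.closure_induction with
  | mem u hu =>
    apply Subgroup.subset_closure
    refine ⟨Gh.mul_mem (Gh.mul_mem hg hu.1) (Gh.inv_mem hg), ?_⟩
    rw [conj_pow, hu.2, mul_one, mul_inv_cancel]
  | one => rw [mul_one, mul_inv_cancel]; exact Subgroup.one_mem _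
  | mul a b _ _ iha ihb =>
    have : g * (a * b) * g⁻¹ = (g * a * g⁻¹) * (g * b * g⁻¹) := by group
    rw [this]
    exact Subgroup.mul_mem _ iha ihb
  | inv a _ iha =>
    have : g * a⁻¹ * g⁻¹ = (g * a * g⁻¹)⁻¹ := by group
    rw [this]
    exact Subgroup.inv_mem _ iha

theorem perm_mem_of_uv (t : ℕ × Ltr × List Ltr × List Ltr) (ht : t ∈ uvItems) :
    T.perm t.2.1 ∈ M5 := by
  obtain ⟨k, x, u, v⟩ := t
  have hrow : ∀ i, i < nn → powRowOK tf (tauU k) [] u [] 5 i = true ∧
      powRowOK tf (tauV k) [] v [] 5 i = true ∧ tauU k (tauV k i) = tf x i := by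
    intro i hi
    have h0 := ordP_all i hi
    unfold ordP at h0
    rw [band_eq_true] at h0
    have h1 := allList_spec _ _ h0.1 _ ht
    rw [band_eq_true, band_eq_true] at h1
    exact ⟨h1.1, h1.2.1, nbeq_eq_true.1 h1.2.2⟩
  have htU : ∀ i, i < nn → tauU k i = act tf u i := by
    intro i hi
    have := (hrow i hi).1
    unfold powRowOK at this
    rw [band_eq_true] at this
    exact nbeq_eq_true.1 this.1
  have htV : ∀ i, i < nn → tauV k i = act tf v i := by
    intro i hi
    have := (hrow i hi).2.1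
    unfold powRowOK at this
    rw [band_eq_true] at this
    exact nbeq_eq_true.1 this.1
  have hu5 : wp u ^ 5 = 1 := by
    rw [← wp_pow]
    apply wp_eq_one
    intro i hi
    have h5 := powRowOK_sound T (tauU k) [] u [] 5 (fun i hi => (hrow i hi).1) i hi
    rw [List.nil_append, List.append_nil] at h5
    exact h5
  have hv5 : wp v ^ 5 = 1 := by
    rw [← wp_pow]
    apply wp_eq_one
    intro i hi
    have h5 := powRowOK_sound T (tauV k) [] v [] 5 (fun i hi => (hrow i hi).2.1) i hi
    rw [List.nil_append, List.append_nil] at h5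
    exact h5
  have hx : T.perm x = wp u * wp v := by
    apply Equiv.ext
    intro i
    apply Fin.ext
    rw [Equiv.Perm.mul_apply, wp_apply, wp_apply, T.perm_apply_val]
    have h1 := (hrow i i.2).2.2
    have hlt : act tf v i < nn := T.act_lt v i i.2
    rw [htV i i.2, htU _ hlt] at h1
    exact h1.symm
  show T.perm x ∈ M5
  rw [hx]
  apply Subgroup.mul_mem
  · exact Subgroup.subset_closure ⟨wp_mem_Gh u, hu5⟩
  · exact Subgroup.subset_closure ⟨wp_mem_Gh v, hv5⟩

theorem perm_mem_of_conj (t : Ltr × List Ltr × Ltr × List Ltr) (ht : t ∈ conjItems)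
    (hy : T.perm t.2.2.1 ∈ M5) : T.perm t.1 ∈ M5 := by
  obtain ⟨x, h, y, h'⟩ := t
  have hh' : h' = (h.map binv).reverse := conj_ok _ ht
  have hrow : ∀ i, i < nn → act tf (h ++ (y :: h')) i = tf x i := by
    intro i hi
    have h0 := ordP_all i hi
    unfold ordP at h0
    rw [band_eq_true] at h0
    exact nbeq_eq_true.1 (allList_spec _ _ h0.2 _ ht)
  have hx : T.perm x = wp h * T.perm y * (wp h)⁻¹ := by
    rw [← wp_inv, ← hh', mul_assoc, ← wp_cons, ← wp_append]
    apply Equiv.ext
    intro i
    apply Fin.ext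
    rw [wp_apply, T.perm_apply_val]
    exact (hrow i i.2).symm
  show T.perm x ∈ M5
  rw [hx]
  exact M5_conj _ (wp_mem_Gh h) _ hy

theorem perm_mem_closure (x : Gen) : T.perm (some x) ∈ M5 := by
  have ha : T.perm (some Gen.a) ∈ M5 :=
    perm_mem_of_uv (uvItems.getD 0 default) (by decide)
  have hd : T.perm (some Gen.d) ∈ M5 :=
    perm_mem_of_uv (uvItems.getD 1 default) (by decide)
  have hg : T.perm (some Gen.g) ∈ M5 :=
    perm_mem_of_uv (uvItems.getD 2 default) (by decide)
  have hb : T.perm (some Gen.b) ∈ M5 :=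
    perm_mem_of_conj (conjItems.getD 0 default) (by decide) ha
  have hc : T.perm (some Gen.c) ∈ M5 :=
    perm_mem_of_conj (conjItems.getD 1 default) (by decide) hb
  have he : T.perm (some Gen.e) ∈ M5 :=
    perm_mem_of_conj (conjItems.getD 2 default) (by decide) hd
  have hf : T.perm (some Gen.f) ∈ M5 :=
    perm_mem_of_conj (conjItems.getD 3 default) (by decide) he
  cases x
  · exact hg
  · exact ha
  · exact hb
  · exact hc
  · exact hd
  · exact he
  · exact hf

theorem hdiv_aux : ∀ J ∈ (Finset.range (4 + 1)).powerset, 0 ∈ J → J ≠ {0} →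
    J ≠ Finset.range (4 + 1) → ¬ (∑ j ∈ J, msz j) ∣ 122760 := by decide +kernel

theorem simple_Gh : IsSimpleGroup Gh := by
  have horb0 := orbit_eq words0 OC0 (by decide) orb0_root orbP0_all
  have hcardX : Fintype.card (Fin nn) = 122760 := by rw [Fintype.card_fin]; rfl
  apply isSimpleGroup_of_suborbits Gh (⟨0, nn_pos⟩ : Fin nn) (by rw [hcardX]; norm_num) _ Kh Kh_le
    Kh_fix cls 4 _ _ _ msz _ _ 5 1 (by norm_num) _ _ (wordPerms2 T words0) rfl _
  · -- transitivity
    intro c
    have huniv : oset OC0 = Set.univ := by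
      apply Set.eq_of_subset_of_ncard_le (Set.subset_univ _) _ (Set.toFinite _)
      rw [oset_ncard OC0 122760 orb0_count, Set.ncard_univ, Nat.card_eq_fintype_card, hcardX]
    have hc : c ∈ orbit (Subgroup.closure (wordPerms2 T words0))
        (⟨OC0.root, by decide⟩ : Fin nn) := by
      rw [horb0, huniv]; trivial
    obtain ⟨⟨g, hg⟩, rfl⟩ := hc
    exact ⟨g, hg, rfl⟩
  · intro c
    exact (lab_spec c.val c.2).1
  · intro c
    rw [show cls c = lab c.val from rfl, (lab_spec c.val c.2).2]
    exact ⟨fun h => Fin.ext h, fun h => congrArg Fin.val h⟩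
  · -- transitivity of the stabilizer part on the classes
    intro d e hde
    obtain ⟨j, hj⟩ : ∃ j, cls d = j := ⟨_, rfl⟩
    have hje : cls e = j := hde ▸ hj
    have hj4 : j ≤ 4 := hj ▸ (lab_spec d.val d.2).1
    interval_cases j
    · have hd0 : d.val = 0 := (lab_spec d.val d.2).2.1 hj
      have he0 : e.val = 0 := (lab_spec e.val e.2).2.1 hje
      exact ⟨1, Kh.one_mem, Fin.ext (hd0.trans he0.symm)⟩
    · exact cls_trans 1 1 (by decide) sub1_root subP1_all d e hj hje
    · exact cls_trans 2 6 (by decide) sub2_root subP2_all d e hj hje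
    · exact cls_trans 3 12 (by decide) sub3_root subP3_all d e hj hje
    · exact cls_trans 4 31 (by decide) sub4_root subP4_all d e hj hje
  · -- class sizes
    intro j hj
    interval_cases j
    · show (Finset.univ.filter (fun c : Fin nn => cls c = 0)).card = 1
      rw [Finset.card_eq_one]
      refine ⟨⟨0, nn_pos⟩, ?_⟩
      ext c
      simp only [Finset.mem_filter, Finset.mem_univ, true_and, Finset.mem_singleton]
      rw [show cls c = lab c.val from rfl, (lab_spec c.val c.2).2]
      exact ⟨fun h => Fin.ext h, fun h => congrArg Fin.val h⟩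
    · exact cls_card 1 1 58653 sub1_count
    · exact cls_card 2 6 52136 sub2_count
    · exact cls_card 3 12 5586 sub3_count
    · exact cls_card 4 31 6384 sub4_count
  · rw [hcardX]; exact hdiv_aux
  · rw [hcardX]; norm_num
  · rw [card_Gh]; norm_num
  · -- generators are products of elements of order 5
    rintro _ ⟨w, hw, rfl⟩
    rw [words0_eq] at hw
    have hx : ∃ x : Gen, w = [some x] := by
      simp only [List.mem_cons, List.not_mem_nil, or_false] at hw
      rcases hw with rfl | rfl | rfl | rfl | rfl | rfl | rfl <;> exact ⟨_, rfl⟩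
    obtain ⟨x, rfl⟩ := hx
    show wp [some x] ∈ _
    rw [wp_singleton]
    exact perm_mem_closure x

/-- The presented O'Nan group is simple of order `460815505920`. -/
theorem on_simple_order : IsSimpleGroup (PresentedGroup rels) ∧
    Nat.card (PresentedGroup rels) = 460815505920 := by
  refine ⟨?_, card_ON⟩
  obtain ⟨e⟩ := exists_equiv
  have := simple_Gh
  exact e.isSimpleGroup

end Cfsg.Agent.Lib.Helper56.ONPerm
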