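import Cfsg.Agent.Lib.Helper56.ONPerm.DataT

set_option autoImplicit false
set_option linter.unusedVariables false
set_option Elab.async false

namespace Cfsg.Agent.Lib.Helper56.ONPerm

open Cfsg.Spor.ON (Gen)
open Cfsg.Agent.Lib.Helper28 Cfsg.Agent.Lib.Helper28.TC Cfsg.Agent.Lib.Helper28.TC2 Cfsg.Agent.Lib.Helper28.ON122760

noncomputable section

theorem ordP_blk320 : allRange (guard nn ordP) 8 (320 * 2 ^ 8) = true := by decide +kernel
theorem ordP_blk321 : allRange (guard nn ordP) 8 (321 * 2 ^ 8) = true := by decide +kernel
theorem ordP_blk322 : allRange (guard nn ordP) 8 (322 * 2 ^ 8) = true := by decide +kernel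
theorem ordP_blk323 : allRange (guard nn ordP) 8 (323 * 2 ^ 8) = true := by decide +kernel
theorem ordP_blk324 : allRange (guard nn ordP) 8 (324 * 2 ^ 8) = true := by decide +kernel
theorem ordP_blk325 : allRange (guard nn ordP) 8 (325 * 2 ^ 8) = true := by decide +kernel
theorem ordP_blk326 : allRange (guard nn ordP) 8 (326 * 2 ^ 8) = true := by decide +kernel
theorem ordP_blk327 : allRange (guard nn ordP) 8 (327 * 2 ^ 8) = true := by decide +kernel
theorem ordP_blk328 : allRange (guard nn ordP) 8 (328 * 2 ^ 8) = true := by decide +kernel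
theorem ordP_blk329 : allRange (guard nn ordP) 8 (329 * 2 ^ 8) = true := by decide +kernel
theorem ordP_blk330 : allRange (guard nn ordP) 8 (330 * 2 ^ 8) = true := by decide +kernel
theorem ordP_blk331 : allRange (guard nn ordP) 8 (331 * 2 ^ 8) = true := by decide +kernel
theorem ordP_blk332 : allRange (guard nn ordP) 8 (332 * 2 ^ 8) = true := by decide +kernel
theorem ordP_blk333 : allRange (guard nn ordP) 8 (333 * 2 ^ 8) = true := by decide +kernel
theorem ordP_blk334 : allRange (guard nn ordP) 8 (334 * 2 ^ 8) = true := by decide +kernel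
theorem ordP_blk335 : allRange (guard nn ordP) 8 (335 * 2 ^ 8) = true := by decide +kernel
theorem ordP_blk336 : allRange (guard nn ordP) 8 (336 * 2 ^ 8) = true := by decide +kernel
theorem ordP_blk337 : allRange (guard nn ordP) 8 (337 * 2 ^ 8) = true := by decide +kernel
theorem ordP_blk338 : allRange (guard nn ordP) 8 (338 * 2 ^ 8) = true := by decide +kernel
theorem ordP_blk339 : allRange (guard nn ordP) 8 (339 * 2 ^ 8) = true := by decide +kernel
theorem ordP_blk340 : allRange (guard nn ordP) 8 (340 * 2 ^ 8) = true := by decide +kernel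
theorem ordP_blk341 : allRange (guard nn ordP) 8 (341 * 2 ^ 8) = true := by decide +kernel
theorem ordP_blk342 : allRange (guard nn ordP) 8 (342 * 2 ^ 8) = true := by decide +kernel
theorem ordP_blk343 : allRange (guard nn ordP) 8 (343 * 2 ^ 8) = true := by decide +kernel
theorem ordP_blk344 : allRange (guard nn ordP) 8 (344 * 2 ^ 8) = true := by decide +kernel
theorem ordP_blk345 : allRange (guard nn ordP) 8 (345 * 2 ^ 8) = true := by decide +kernel
theorem ordP_blk346 : allRange (guard nn ordP) 8 (346 * 2 ^ 8) = true := by decide +kernel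
theorem ordP_blk347 : allRange (guard nn ordP) 8 (347 * 2 ^ 8) = true := by decide +kernel
theorem ordP_blk348 : allRange (guard nn ordP) 8 (348 * 2 ^ 8) = true := by decide +kernel
theorem ordP_blk349 : allRange (guard nn ordP) 8 (349 * 2 ^ 8) = true := by decide +kernel
theorem ordP_blk350 : allRange (guard nn ordP) 8 (350 * 2 ^ 8) = true := by decide +kernel
theorem ordP_blk351 : allRange (guard nn ordP) 8 (351 * 2 ^ 8) = true := by decide +kernel
theorem ordP_f10 : ∀ k, 320 ≤ k → k < 352 → allRange (guard nn ordP) 8 (k * 2 ^ 8) = true := by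
  intro k h1 h2
  interval_cases k
  · exact ordP_blk320
  · exact ordP_blk321
  · exact ordP_blk322
  · exact ordP_blk323
  · exact ordP_blk324
  · exact ordP_blk325
  · exact ordP_blk326
  · exact ordP_blk327
  · exact ordP_blk328
  · exact ordP_blk329
  · exact ordP_blk330
  · exact ordP_blk331
  · exact ordP_blk332
  · exact ordP_blk333
  · exact ordP_blk334
  · exact ordP_blk335
  · exact ordP_blk336
  · exact ordP_blk337
  · exact ordP_blk338
  · exact ordP_blk339
  · exact ordP_blk340
  · exact ordP_blk341
  · exact ordP_blk342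
  · exact ordP_blk343
  · exact ordP_blk344
  · exact ordP_blk345
  · exact ordP_blk346
  · exact ordP_blk347
  · exact ordP_blk348
  · exact ordP_blk349
  · exact ordP_blk350
  · exact ordP_blk351

end

end Cfsg.Agent.Lib.Helper56.ONPerm
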