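import Cfsg.Agent.Lib.Helper56.ONPerm.DataS

set_option autoImplicit false
set_option linter.unusedVariables false

namespace Cfsg.Agent.Lib.Helper56.ONPerm

open Cfsg.Spor.ON (Gen)
open Cfsg.Agent.Lib.Helper28 Cfsg.Agent.Lib.Helper28.TC Cfsg.Agent.Lib.Helper28.TC2 Cfsg.Agent.Lib.Helper28.ON122760

noncomputable section

theorem sub1_count : countRange (fun i => band (nlt i nn) ((OCs 1 1).inO i)) 17 0 = 58653 := by decide +kernel
theorem sub1_root : (OCs 1 1).inO 1 = true := by decide +kernel
theorem sub2_count : countRange (fun i => band (nlt i nn) ((OCs 2 6).inO i)) 17 0 = 52136 := by decide +kernel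
theorem sub2_root : (OCs 2 6).inO 6 = true := by decide +kernel
theorem sub3_count : countRange (fun i => band (nlt i nn) ((OCs 3 12).inO i)) 17 0 = 5586 := by decide +kernel
theorem sub3_root : (OCs 3 12).inO 12 = true := by decide +kernel
theorem sub4_count : countRange (fun i => band (nlt i nn) ((OCs 4 31).inO i)) 17 0 = 6384 := by decide +kernel
theorem sub4_root : (OCs 4 31).inO 31 = true := by decide +kernel
theorem fixK : allList (fun w => Nat.beq (act tf w 0) 0) wordsK = true := by decide +kernel

end

end Cfsg.Agent.Lib.Helper56.ONPerm
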